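import Cfsg.Agent.Lib.Char.Exceptional.Orth.Chambers

/-!
# The apartment of coordinate flags
-/

set_option autoImplicit false

namespace CfsgLib.OrthFlags

open QuadraticMap (polar polarBilin)
open CfsgLib.Classical.Quad Finset

variable {F : Type*} [Field F] {V : Type*} [AddCommGroup V] [Module F V] [FiniteDimensional F V]
  {Q : QuadraticForm F V} {m : ℕ} (P : Frame Q m)

/-- Signed permutations. -/
abbrev Apt (m : ℕ) : Type := Equiv.Perm (Fin m) × (Fin m → Bool)

namespace Frame

/-- Coordinate vectors. -/
def vec (c : Fin m × Bool) : V := if c.2 then P.f c.1 else P.e c.1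

theorem q_vec (c : Fin m × Bool) : Q (P.vec c) = 0 := by
  unfold vec; split_ifs <;> simp [P.qe, P.qf]

theorem polar_vec (c d : Fin m × Bool) :
    polar Q (P.vec c) (P.vec d) = if d = (c.1, !c.2) then 1 else 0 := by
  obtain ⟨i, s⟩ := c
  obtain ⟨j, t⟩ := d
  cases s <;> cases t <;> simp [vec, P.ee, P.ef, P.fe, P.ff, eq_comm]

theorem polar_span {I : Set (Fin m × Bool)} {z : V} (hz : z ∈ Submodule.span F (P.vec '' I))
    {d : Fin m × Bool} (h : ∀ c ∈ I, d ≠ (c.1, !c.2)) : polar Q z (P.vec d) = 0 := by
  induction hz using Submodule.span_induction with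
  | mem x hx => obtain ⟨c, hc, rfl⟩ := hx; rw [P.polar_vec, if_neg (h c hc)]
  | zero => exact QuadraticMap.polar_zero_left _ _
  | add x y _ _ hx hy => rw [polar_add_left', hx, hy, add_zero]
  | smul r x _ hx => rw [polar_smul_left', hx, mul_zero]

theorem mem_of_vec_mem_span {I : Set (Fin m × Bool)} {c : Fin m × Bool}
    (hc : P.vec c ∈ Submodule.span F (P.vec '' I)) : c ∈ I := by
  by_contra h
  have h0 := P.polar_span hc (d := (c.1, !c.2)) fun d hd e => h (by
    have e1 := congrArg Prod.fst e
    have e2 := congrArg Prod.snd e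
    simp at e1 e2
    rwa [show c = d from Prod.ext e1 e2])
  rw [P.polar_vec, if_pos rfl] at h0
  exact one_ne_zero h0

theorem linearIndependent_vec_comp {k : ℕ} (c : Fin k → Fin m × Bool) (hc : Function.Injective c) :
    LinearIndependent F (P.vec ∘ c) := by
  rw [Fintype.linearIndependent_iff]
  intro g hg j
  have h := congrArg (fun v => polar Q v (P.vec ((c j).1, !(c j).2))) hg
  simp only [polar_sum_left, QuadraticMap.polar_zero_left, Function.comp_apply, P.polar_vec] at h
  rw [sum_eq_single j] at h
  · simpa using h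
  · intro i _ hi
    rw [if_neg, mul_zero]
    intro e
    refine hi (hc ?_)
    have e1 := congrArg Prod.fst e
    have e2 := congrArg Prod.snd e
    simp at e1 e2
    exact (Prod.ext e1 e2).symm
  · exact fun h => absurd (mem_univ j) h

/-- The steps of a coordinate flag. -/
def coord (a : Apt m) (l : Fin m) : Fin m × Bool := (a.1 l, a.2 l)

theorem coord_injective (a : Apt m) : Function.Injective (coord a) := fun _ _ h => a.1.injective (congrArg Prod.fst h)

/-- The first `i` steps. -/
def steps (a : Apt m) (i : ℕ) : Set (Fin m × Bool) := coord a '' {l | l.val < i}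

theorem finrank_steps (a : Apt m) {i : ℕ} (hi : i ≤ m) :
    Module.finrank F (Submodule.span F (P.vec '' steps a i)) = i := by
  have e : P.vec '' steps a i = Set.range (P.vec ∘ fun k : Fin i => coord a (Fin.castLE hi k)) := by
    ext v
    simp only [steps, Set.image_image, Set.mem_image, Set.mem_setOf_eq, Set.mem_range, Function.comp_apply]
    constructor
    · rintro ⟨l, hl, rfl⟩; exact ⟨⟨l.val, hl⟩, rfl⟩
    · rintro ⟨k, rfl⟩; exact ⟨Fin.castLE hi k, k.isLt, rfl⟩
  rw [e, finrank_span_eq_card (P.linearIndependent_vec_comp (fun k : Fin i => coord a (Fin.castLE hi k))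
    ((coord_injective a).comp (Fin.castLE_injective hi))), Fintype.card_fin]

theorem polar_steps (a : Apt m) {i : ℕ} {x y : V} (hx : x ∈ Submodule.span F (P.vec '' steps a i))
    (hy : y ∈ Submodule.span F (P.vec '' steps a i)) : polar Q x y = 0 := by
  induction hy using Submodule.span_induction with
  | mem w hw =>
    obtain ⟨_, ⟨l, -, rfl⟩, rfl⟩ := hw
    refine P.polar_span hx ?_
    rintro _ ⟨k, -, rfl⟩ e
    obtain ⟨e1, e2⟩ := Prod.mk.inj e
    obtain rfl := a.1.injective e1
    simp [coord] at e2
  | zero => exact QuadraticMap.polar_zero_right _ _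
  | add u w _ _ hu hw => rw [polar_add_right', hu, hw, add_zero]
  | smul r u _ hu => rw [polar_smul_right', hu, mul_zero]

/-- The coordinate flag of a signed permutation. -/
noncomputable def flag (a : Apt m) : Chamber Q m where
  sp i := Submodule.span F (P.vec '' steps a i.val)
  mono i j h := Submodule.span_mono (Set.image_mono (Set.image_mono fun _ hl => lt_of_lt_of_le hl (Fin.le_def.1 h)))
  rank i := P.finrank_steps a (Nat.lt_succ_iff.1 i.isLt)
  sing i := by
    intro z hz
    induction hz using Submodule.span_induction with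
    | mem x hx => obtain ⟨c, -, rfl⟩ := hx; exact P.q_vec c
    | zero => exact QuadraticMap.map_zero _
    | add x y hx' hy' hx hy => rw [apply_add, hx, hy, P.polar_steps a hx' hy']; simp
    | smul c x _ hx => rw [apply_smul, hx, mul_zero]

theorem flag_at (a : Apt m) {i : ℕ} (hi : i ≤ m) :
    (P.flag a).at' i = Submodule.span F (P.vec '' steps a i) := by
  show Submodule.span F (P.vec '' steps a (min i m)) = _
  rw [min_eq_left hi]

theorem flag_at_eq_iff (a b : Apt m) {i : ℕ} (hi : i ≤ m) :
    (P.flag a).at' i = (P.flag b).at' i ↔ steps a i = steps b i := by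
  rw [P.flag_at a hi, P.flag_at b hi]
  refine ⟨fun h => Set.ext fun c => ⟨fun hc => ?_, fun hc => ?_⟩, fun h => by rw [h]⟩
  · exact P.mem_of_vec_mem_span (h ▸ Submodule.subset_span ⟨c, hc, rfl⟩)
  · exact P.mem_of_vec_mem_span (h.symm ▸ Submodule.subset_span ⟨c, hc, rfl⟩)

end Frame

open Frame in
theorem mem_steps_coord {a : Apt m} {l : Fin m} {i : ℕ} : coord a l ∈ steps a i ↔ l.val < i := by
  constructor
  · rintro ⟨k, hk, e⟩
    rw [← coord_injective a e]
    exact hk
  · exact fun h => ⟨l, h, rfl⟩

/-- The other member of the pair of apartment flags in a panel. -/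
def toggle (i : Fin m) (a : Apt m) : Apt m :=
  if h : i.val + 1 < m then
    (a.1 * Equiv.swap i ⟨i.val + 1, h⟩, a.2 ∘ Equiv.swap i ⟨i.val + 1, h⟩)
  else (a.1, Function.update a.2 i (!a.2 i))

/-- The sign. -/
def sgn (a : Apt m) : ℤ := (Equiv.Perm.sign a.1 : ℤ) * ∏ l, if a.2 l then 1 else -1

theorem sgn_toggle (i : Fin m) (a : Apt m) : sgn (toggle i a) = -sgn a := by
  unfold toggle sgn
  split_ifs with h
  · have hne : i ≠ ⟨i.val + 1, h⟩ := fun e => by simp [Fin.ext_iff] at e
    rw [map_mul, Equiv.Perm.sign_swap hne, Function.comp_def,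
      Equiv.prod_comp (Equiv.swap i ⟨i.val + 1, h⟩) (fun l => if a.2 l then (1 : ℤ) else -1)]
    simp
  · rw [← mul_prod_erase univ _ (mem_univ i), ← mul_prod_erase univ (fun l => if a.2 l then (1 : ℤ) else -1) (mem_univ i),
      prod_congr rfl (fun l hl => by rw [Function.update_of_ne (mem_erase.1 hl).1] :
        ∀ l ∈ univ.erase i, (if Function.update a.2 i (!a.2 i) l then (1 : ℤ) else -1) = if a.2 l then 1 else -1)]
    cases ha : a.2 i <;> simp [ha]

open Frame in
theorem coord_toggle (i : Fin m) (a : Apt m) (h : i.val + 1 < m) (l : Fin m) :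
    coord (toggle i a) l = coord a (Equiv.swap i ⟨i.val + 1, h⟩ l) := by
  simp only [toggle, dif_pos h]; rfl

open Frame in
theorem steps_toggle (i : Fin m) (a : Apt m) {l : ℕ} (hl : l ≤ m) (hne : l ≠ i.val + 1) :
    steps (toggle i a) l = steps a l := by
  by_cases h : i.val + 1 < m
  · set τ := Equiv.swap i (⟨i.val + 1, h⟩ : Fin m)
    have hτ : ∀ k : Fin m, (τ k).val < l ↔ k.val < l := fun k => by
      show (Equiv.swap i (⟨i.val + 1, h⟩ : Fin m) k).val < l ↔ _
      rw [Equiv.swap_apply_def]
      split_ifs with h1 h2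
      · rw [h1]; show i.val + 1 < l ↔ i.val < l; omega
      · rw [h2]; show i.val < l ↔ i.val + 1 < l; omega
      · rfl
    ext c
    constructor
    · rintro ⟨k, hk, rfl⟩
      rw [coord_toggle i a h]
      exact ⟨τ k, (hτ k).2 hk, rfl⟩
    · rintro ⟨k, hk, rfl⟩
      refine ⟨τ k, (hτ k).2 hk, ?_⟩
      rw [coord_toggle i a h]
      exact congrArg (coord a) (Equiv.swap_apply_self _ _ _)
  · have hco : ∀ k : Fin m, k ≠ i → coord (toggle i a) k = coord a k := fun k hk => by
      simp only [coord, toggle, dif_neg h, Function.update_of_ne hk]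
    refine Set.image_congr fun k hk => hco k ?_
    rintro rfl
    have : k.val < l := hk
    omega

theorem toggle_ne (i : Fin m) (a : Apt m) : toggle i a ≠ a := fun e => by
  have h := sgn_toggle i a
  rw [e] at h
  have hu : sgn a ≠ 0 := by
    unfold sgn
    exact mul_ne_zero (by simp) (prod_ne_zero_iff.2 fun l _ => by split_ifs <;> norm_num)
  omega

namespace Frame

variable {P}

theorem eq_or_toggle {a b : Apt m} {i : Fin m} (h : Chamber.same i (P.flag a) (P.flag b)) :
    b = a ∨ b = toggle i a := by
  have hs : ∀ l, l ≤ m → l ≠ i.val + 1 → steps a l = steps b l := fun l hl hne =>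
    (P.flag_at_eq_iff a b hl).1 (h l hl hne)
  have hfix : ∀ l : Fin m, l.val ≠ i.val → l.val ≠ i.val + 1 → coord a l = coord b l := by
    intro l h1 h2
    have hin : coord a l ∈ steps b (l.val + 1) :=
      hs (l.val + 1) l.isLt (by omega) ▸ mem_steps_coord.2 (Nat.lt_succ_self _)
    obtain ⟨k, hk, e⟩ := hin
    have hk' : k.val < l.val + 1 := hk
    rcases eq_or_lt_of_le (Nat.lt_succ_iff.1 hk') with e' | e'
    · rw [← e, show k = l from Fin.ext e']
    · have : coord a l ∈ steps a l.val := by
        rw [hs l.val l.isLt.le h2]; exact ⟨k, e', e⟩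
      exact absurd (mem_steps_coord.1 this) (lt_irrefl _)
  by_cases hi : i.val + 1 < m
  · set i' : Fin m := ⟨i.val + 1, hi⟩
    have hin : ∀ l : Fin m, i.val ≤ l.val → l.val ≤ i.val + 1 → coord b l = coord a i ∨ coord b l = coord a i' := by
      intro l h1 h2
      have : coord b l ∈ steps a (i.val + 2) := by
        rw [hs (i.val + 2) hi (by omega)]; exact mem_steps_coord.2 (by omega)
      obtain ⟨k, hk, e⟩ := this
      have hk' : k.val < i.val + 2 := hk
      by_cases hk1 : k.val < i.val
      · exfalso
        have hb : coord b l ∈ steps b i.val := by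
          rw [← hs i.val i.isLt.le (by omega)]; exact ⟨k, hk1, e⟩
        exact absurd (mem_steps_coord.1 hb) (by omega)
      · rcases (show k.val = i.val ∨ k.val = i.val + 1 by omega) with e' | e'
        · left; rw [← e, show k = i from Fin.ext e']
        · right; rw [← e, show k = i' from Fin.ext e']
    have hne : i ≠ i' := fun e => by simp [i', Fin.ext_iff] at e
    have finish : ∀ c : Apt m, (∀ l, coord b l = coord c l) → b = c := fun c hc =>
      Prod.ext (Equiv.ext fun l => congrArg Prod.fst (hc l)) (funext fun l => congrArg Prod.snd (hc l))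
    rcases hin i le_rfl (Nat.le_succ _) with e1 | e1
    · rcases hin i' (Nat.le_succ _) le_rfl with e2 | e2
      · exact absurd (coord_injective b (e1.trans e2.symm)) hne
      · left
        refine finish a fun l => ?_
        by_cases h1 : l = i
        · rw [h1, e1]
        by_cases h2 : l = i'
        · rw [h2, e2]
        exact (hfix l (fun e => h1 (Fin.ext e)) (fun e => h2 (Fin.ext e))).symm
    · rcases hin i' (Nat.le_succ _) le_rfl with e2 | e2
      · right
        refine finish _ fun l => ?_
        rw [coord_toggle i a hi]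
        by_cases h1 : l = i
        · rw [h1, e1, Equiv.swap_apply_left]
        by_cases h2 : l = i'
        · rw [h2, e2, Equiv.swap_apply_right]
        rw [Equiv.swap_apply_of_ne_of_ne h1 h2]
        exact (hfix l (fun e => h1 (Fin.ext e)) (fun e => h2 (Fin.ext e))).symm
      · exact absurd (coord_injective b (e1.trans e2.symm)) hne
  · have hfix' : ∀ l, l ≠ i → coord a l = coord b l := fun l hl =>
      hfix l (fun e => hl (Fin.ext e)) (by have := l.isLt; omega)
    have hperm : b.1 = a.1 := Equiv.ext fun l => by
      by_cases hl : l = i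
      · subst hl
        by_contra hne
        obtain ⟨k, hk⟩ := a.1.surjective (b.1 l)
        have hkl : k ≠ l := fun e => hne (by rw [← hk, e])
        exact hkl (b.1.injective ((congrArg Prod.fst (hfix' k hkl)).symm.trans hk))
      · exact (congrArg Prod.fst (hfix' l hl)).symm
    have hsl : ∀ l, l ≠ i → b.2 l = a.2 l := fun l hl => (congrArg Prod.snd (hfix' l hl)).symm
    by_cases hsi : b.2 i = a.2 i
    · exact Or.inl (Prod.ext hperm (funext fun l => if hl : l = i then hl ▸ hsi else hsl l hl))
    · refine Or.inr ?_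
      simp only [toggle, dif_neg hi]
      refine Prod.ext hperm (funext fun l => ?_)
      by_cases hl : l = i
      · subst hl
        show b.2 l = Function.update a.2 l (!a.2 l) l
        rw [Function.update_self]
        cases hb : b.2 l <;> cases ha : a.2 l <;> simp_all
      · show b.2 l = Function.update a.2 i (!a.2 i) l
        rw [Function.update_of_ne hl, hsl l hl]

theorem same_toggle (P : Frame Q m) (i : Fin m) (a : Apt m) : Chamber.same i (P.flag a) (P.flag (toggle i a)) :=
  fun _ hl hne => (P.flag_at_eq_iff a _ hl).2 (steps_toggle i a hl hne).symm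

/-- The base apartment element. -/
def top (m : ℕ) : Apt m := (1, fun _ => true)

theorem coord_top (l : Fin m) : coord (top m) l = (l, true) := rfl

theorem opp_top (P : Frame Q m) : (P.flag (top m)).Opp P := fun i => by
  refine ⟨P.f i, ?_, fun l hl => ?_, ?_⟩
  · rw [P.flag_at _ i.isLt]
    exact Submodule.subset_span ⟨(i, true), ⟨i, Nat.lt_succ_self _, rfl⟩, rfl⟩
  · rw [P.fe, if_neg (ne_of_lt hl)]
  · rw [P.fe, if_pos rfl]

theorem eq_top_of_opp (P : Frame Q m) {a : Apt m} (h : (P.flag a).Opp P) : a = top m := by
  have key : ∀ n, ∀ l : Fin m, l.val = n → coord a l = (l, true) := by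
    intro n
    induction n using Nat.strong_induction_on with
    | _ n ih =>
      rintro l rfl
      obtain ⟨v, hv, h0, h1⟩ := h l
      rw [P.flag_at _ l.isLt] at hv
      by_contra hne
      have hz : polar Q v (P.vec (l, false)) = 0 := P.polar_span hv (by
        rintro _ ⟨k, hk, rfl⟩ e
        have hk' : k.val < l.val + 1 := hk
        rcases eq_or_lt_of_le (Nat.lt_succ_iff.1 hk') with e' | e'
        · obtain rfl : k = l := Fin.ext e'
          obtain ⟨e1, e2⟩ := Prod.mk.inj e
          refine hne (Prod.ext e1.symm ?_)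
          show a.2 k = true
          cases ha : a.2 k
          · simp [coord, ha] at e2
          · rfl
        · rw [ih k.val e' k rfl] at e
          obtain ⟨e1, -⟩ := Prod.mk.inj e
          exact absurd e1 (fun e1 => by rw [e1] at e'; exact lt_irrefl _ e'))
      exact one_ne_zero (h1.symm.trans hz)
  exact Prod.ext (Equiv.ext fun l => congrArg Prod.fst (key _ l rfl)) (funext fun l => congrArg Prod.snd (key _ l rfl))

end Frame

end CfsgLib.OrthFlags
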