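import Cfsg.Agent.Lib.Char.Exceptional.Orth.UnipGroup

/-!
# Singular flags: positions against a frame, opposite flags
-/

set_option autoImplicit false

namespace CfsgLib.OrthFlags

open QuadraticMap (polar polarBilin)
open CfsgLib.Classical.Quad Finset

variable {F : Type*} [Field F] {V : Type*} [AddCommGroup V] [Module F V] [FiniteDimensional F V]

/-- A maximal flag of singular subspaces. -/
structure Chamber (Q : QuadraticForm F V) (m : ℕ) where
  sp : Fin (m + 1) → Submodule F V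
  mono : Monotone sp
  rank : ∀ i, Module.finrank F (sp i) = i.val
  sing : ∀ i, ∀ z ∈ sp i, Q z = 0

namespace Chamber

variable {Q : QuadraticForm F V} {m : ℕ}

/-- The members of the flag, indexed by the natural numbers. -/
def at' (x : Chamber Q m) (i : ℕ) : Submodule F V := x.sp ⟨min i m, by omega⟩

theorem at_mono (x : Chamber Q m) {i j : ℕ} (h : i ≤ j) : x.at' i ≤ x.at' j :=
  x.mono (Fin.le_def.2 (by show min i m ≤ min j m; omega))

theorem at_rank (x : Chamber Q m) {i : ℕ} (h : i ≤ m) : Module.finrank F (x.at' i) = i := by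
  rw [at', x.rank]; show min i m = i; omega

theorem at_sing (x : Chamber Q m) {i : ℕ} {z : V} (hz : z ∈ x.at' i) : Q z = 0 := x.sing _ z hz

theorem at_polar (x : Chamber Q m) {i : ℕ} {y z : V} (hy : y ∈ x.at' i) (hz : z ∈ x.at' i) :
    polar Q y z = 0 := by
  rw [QuadraticMap.polar, x.at_sing (add_mem hy hz), x.at_sing hy, x.at_sing hz]; ring

theorem ext' {x y : Chamber Q m} (h : ∀ i ≤ m, x.at' i = y.at' i) : x = y := by
  have e : x.sp = y.sp := funext fun i => by
    have := h i.val (Nat.lt_succ_iff.1 i.isLt)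
    simp only [at'] at this
    have hi : (⟨min i.val m, by omega⟩ : Fin (m + 1)) = i := Fin.ext (min_eq_left (Nat.lt_succ_iff.1 i.isLt))
    rwa [hi] at this
  cases x; cases y; congr

noncomputable instance [Finite F] : Finite (Chamber Q m) := by
  haveI : Finite V := Module.finite_of_finite F
  haveI : Finite (Submodule F V) := Finite.of_injective (fun W => (W : Set V)) SetLike.coe_injective
  exact Finite.of_injective (fun x => x.sp) fun x y h => by cases x; cases y; congr

instance : MulAction (OQ Q) (Chamber Q m) where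
  smul g x :=
    { sp := fun i => (x.sp i).map ((g : V ≃ₗ[F] V) : V →ₗ[F] V)
      mono := fun i j h => Submodule.map_mono (x.mono h)
      rank := fun i => by rw [LinearEquiv.finrank_map_eq, x.rank]
      sing := fun i => by
        rintro _ ⟨z, hz, rfl⟩
        exact (OQ.map_apply g z).trans (x.sing i z hz) }
  one_smul x := ext' fun i _ => Submodule.map_id _
  mul_smul g h x := ext' fun i _ =>
    (Submodule.map_comp ((h : V ≃ₗ[F] V) : V →ₗ[F] V) ((g : V ≃ₗ[F] V) : V →ₗ[F] V) _)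

theorem at_smul (g : OQ Q) (x : Chamber Q m) (i : ℕ) :
    (g • x).at' i = (x.at' i).map ((g : V ≃ₗ[F] V) : V →ₗ[F] V) := rfl

/-- Two flags in a common panel. -/
def same (i : Fin m) (x y : Chamber Q m) : Prop := ∀ l, l ≤ m → l ≠ i.val + 1 → x.at' l = y.at' l

variable (P : Frame Q m)

/-- The fixed filtration. -/
def _root_.CfsgLib.OrthFlags.Frame.E (k : ℕ) : Submodule F V := if k ≤ m then P.S k else P.O (2 * m - k)

theorem _root_.CfsgLib.OrthFlags.Frame.E_mono {k l : ℕ} (h : k ≤ l) : P.E k ≤ P.E l := by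
  unfold Frame.E
  split_ifs with h1 h2
  · exact P.S_mono h
  · exact P.S_le_O _ _
  · omega
  · exact P.O_anti (by omega)

theorem _root_.CfsgLib.OrthFlags.Frame.E_top (hm : 1 ≤ m) : P.E (2 * m) = ⊤ := by
  rw [Frame.E, if_neg (by omega), Nat.sub_self, P.O_zero]

theorem _root_.CfsgLib.OrthFlags.Frame.exists_functional {k : ℕ} (hk : k + 1 ≤ 2 * m) :
    ∃ φ : V →ₗ[F] F, ∀ z, Q z = 0 → z ∈ P.E (k + 1) → φ z = 0 → z ∈ P.E k := by
  by_cases h : k < m
  · refine ⟨(polarBilin Q).flip (P.f ⟨k, h⟩), fun z _ hz hφ => ?_⟩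
    rw [Frame.E, if_pos (by omega)] at hz ⊢
    have hs := P.mem_S_iff.1 hz
    refine P.mem_S_iff.2 ⟨hs.1, fun i hi => ?_, hs.2.2⟩
    rcases eq_or_lt_of_le hi with e | e
    · obtain rfl : i = ⟨k, h⟩ := Fin.ext e.symm
      exact hφ
    · exact hs.2.1 i e
  · refine ⟨(polarBilin Q).flip (P.e ⟨2 * m - (k + 1), by omega⟩), fun z hq hz hφ => ?_⟩
    rw [Frame.E, if_neg (by omega)] at hz
    have hO : z ∈ P.O (2 * m - k) := by
      intro i hi
      by_cases hi' : i.val < 2 * m - (k + 1)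
      · exact hz i hi'
      · rw [show i = ⟨2 * m - (k + 1), by omega⟩ from Fin.ext (by show i.val = 2 * m - (k + 1); omega)]
        exact hφ
    unfold Frame.E
    split_ifs with hkm
    · obtain rfl : k = m := by omega
      exact P.sing_O (by rwa [show 2 * k - k = k by omega] at hO) hq
    · exact hO

include P in
/-- Singular subspaces have dimension at most `m`. -/
theorem _root_.CfsgLib.OrthFlags.Frame.finrank_sing_le (hQ : (polarBilin Q).Nondegenerate) {W : Submodule F V}
    (hW : ∀ w ∈ W, Q w = 0) : Module.finrank F W ≤ m := by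
  have hS : Module.finrank F (P.S m) ≤ m := by
    exact (Submodule.finrank_mono (Submodule.span_mono (Set.image_subset_range _ _))).trans
      ((finrank_range_le_card P.e).trans (Fintype.card_fin m).le)
  by_contra hlt
  have h := finrank_eq_of_maximal hQ (W₁ := P.S m) (W₂ := W) (fun z hz => P.sing_S hz) hW
    (fun W' hle hW' => le_antisymm (fun z hz => P.sing_O (fun i _ => by
      have hp := hW' _ (add_mem hz (hle (P.e_mem_S i.isLt)))
      rw [apply_add, hW' z hz, P.qe, zero_add, zero_add] at hp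
      exact hp) (hW' z hz)) hle) (by omega)
  omega

variable (x : Chamber Q m)

/-- The position of the `i`-th step of a flag. -/
noncomputable def jump (hm : 1 ≤ m) (i : Fin m) : ℕ :=
  haveI : DecidablePred fun k => ¬ x.at' (i.val + 1) ⊓ P.E k ≤ x.at' i.val := fun _ => _root_.Classical.propDecidable _
  Nat.find (p := fun k => ¬ x.at' (i.val + 1) ⊓ P.E k ≤ x.at' i.val) ⟨2 * m, fun h => by
    rw [P.E_top hm, inf_top_eq] at h
    have := Submodule.finrank_mono h
    rw [x.at_rank i.isLt, x.at_rank i.isLt.le] at this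
    omega⟩

variable (hm : 1 ≤ m) (i : Fin m)

theorem jump_spec : ¬ x.at' (i.val + 1) ⊓ P.E (x.jump P hm i) ≤ x.at' i.val := by
  unfold jump
  exact @Nat.find_spec (fun k => ¬ x.at' (i.val + 1) ⊓ P.E k ≤ x.at' i.val) (fun _ => _root_.Classical.propDecidable _) _

theorem le_of_lt_jump {k : ℕ} (h : k < x.jump P hm i) : x.at' (i.val + 1) ⊓ P.E k ≤ x.at' i.val := by
  unfold jump at h
  exact not_not.1 (@Nat.find_min _ (fun _ => _root_.Classical.propDecidable _) _ _ h)

theorem jump_le : x.jump P hm i ≤ 2 * m := by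
  by_contra h
  have h' := x.le_of_lt_jump P hm i (not_le.1 h)
  rw [P.E_top hm, inf_top_eq] at h'
  have := Submodule.finrank_mono h'
  rw [x.at_rank i.isLt, x.at_rank i.isLt.le] at this
  omega

theorem one_le_jump : 1 ≤ x.jump P hm i := by
  by_contra h
  have h' := x.jump_spec P hm i
  rw [Nat.lt_one_iff.1 (not_le.1 h), Frame.E, if_pos (Nat.zero_le _), P.S_zero, inf_bot_eq] at h'
  exact h' bot_le

theorem jump_ne {i l : Fin m} (h : i < l) : x.jump P hm i ≠ x.jump P hm l := by
  intro e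
  obtain ⟨k, hk⟩ : ∃ k, x.jump P hm i = k + 1 := ⟨x.jump P hm i - 1, by have := x.one_le_jump P hm i; omega⟩
  obtain ⟨v, ⟨hv, hvE⟩, hv'⟩ := SetLike.not_le_iff_exists.1 (x.jump_spec P hm i)
  obtain ⟨w, ⟨hw, hwE⟩, hw'⟩ := SetLike.not_le_iff_exists.1 (x.jump_spec P hm l)
  rw [hk] at hvE
  rw [← e, hk] at hwE
  obtain ⟨φ, hφ⟩ := P.exists_functional (k := k) (by have := x.jump_le P hm i; omega)
  have hφv : φ v ≠ 0 := fun h0 =>
    hv' (x.le_of_lt_jump P hm i (k := k) (by omega) ⟨hv, hφ v (x.at_sing hv) hvE h0⟩)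
  have hvl : v ∈ x.at' l.val := x.at_mono (show i.val + 1 ≤ l.val by rw [Fin.lt_def] at h; omega) hv
  have hd : w - (φ w / φ v) • v ∈ x.at' (l.val + 1) :=
    sub_mem hw (Submodule.smul_mem _ _ (x.at_mono (Nat.le_succ _) hvl))
  have hz := x.le_of_lt_jump P hm l (k := k) (by omega) ⟨hd, hφ _ (x.at_sing hd)
    (sub_mem hwE (Submodule.smul_mem _ _ hvE)) (by
      rw [map_sub, map_smul, smul_eq_mul, div_mul_cancel₀ _ hφv, sub_self])⟩
  exact hw' (by simpa using add_mem hz (Submodule.smul_mem _ (φ w / φ v) hvl))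

/-- The distance from the base flag. -/
noncomputable def height : ℕ :=
  ∑ l ∈ range (m + 1), ∑ k ∈ range (2 * m + 1), (m - Module.finrank F ↥(x.at' l ⊓ P.E k))

/-- An ascent. -/
def Asc : Prop :=
  (∃ h : i.val + 1 < m, x.jump P hm i ≤ x.jump P hm ⟨i.val + 1, h⟩) ∨
    (i.val + 1 = m ∧ x.jump P hm i ≤ m)

theorem height_lt (hQ : (polarBilin Q).Nondegenerate) {y : Chamber Q m} (hA : x.Asc P hm i)
    (hxy : same i x y) (hne : y ≠ x) : x.height P < y.height P := by
  set j := x.jump P hm i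
  set l₀ := i.val + 1
  have hl₀ : l₀ ≤ m := i.isLt
  have hlow : y.at' i.val = x.at' i.val := (hxy i.val i.isLt.le (by omega)).symm
  have hne' : y.at' l₀ ≠ x.at' l₀ := fun e => hne (ext' fun l hl => by
    by_cases h : l = l₀
    · rw [h, e]
    · exact (hxy l hl h).symm)
  have hinf : x.at' l₀ ⊓ y.at' l₀ = x.at' i.val := by
    have h1 : x.at' i.val ≤ x.at' l₀ ⊓ y.at' l₀ :=
      le_inf (x.at_mono (by omega)) (hlow ▸ y.at_mono (by omega))
    refine (Submodule.eq_of_le_of_finrank_le h1 ?_).symm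
    rw [x.at_rank i.isLt.le]
    by_contra hlt
    have e1 : x.at' l₀ ⊓ y.at' l₀ = x.at' l₀ :=
      Submodule.eq_of_le_of_finrank_le inf_le_left (by rw [x.at_rank hl₀]; omega)
    have e2 : x.at' l₀ ⊓ y.at' l₀ = y.at' l₀ :=
      Submodule.eq_of_le_of_finrank_le inf_le_right (by rw [y.at_rank hl₀]; omega)
    exact hne' (e2.symm.trans e1)
  obtain ⟨v, ⟨hv, hvE⟩, hv'⟩ := SetLike.not_le_iff_exists.1 (x.jump_spec P hm i)
  have hsmall : ∀ k, k ≤ j → y.at' l₀ ⊓ P.E k ≤ x.at' i.val := by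
    intro k hk w hw
    rw [← hinf]
    refine ⟨?_, hw.1⟩
    rcases hA with ⟨h, hle⟩ | ⟨hlast, hle⟩
    · refine x.le_of_lt_jump P hm ⟨i.val + 1, h⟩
        (lt_of_le_of_ne hle (x.jump_ne P hm (Fin.lt_def.2 (Nat.lt_succ_self _)))) ⟨?_, P.E_mono hk hw.2⟩
      show w ∈ x.at' (i.val + 1 + 1)
      rw [hxy (i.val + 1 + 1) (by omega) (by omega)]
      exact y.at_mono (by omega) hw.1
    · by_contra hwx
      have hSv : v ∈ P.S m := by
        have := P.E_mono hle hvE
        rwa [Frame.E, if_pos le_rfl] at this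
      have hSw : w ∈ P.S m := by
        have := P.E_mono (hk.trans hle) hw.2
        rwa [Frame.E, if_pos le_rfl] at this
      have hwlow : w ∉ x.at' i.val := fun h => hwx (x.at_mono (by omega) h)
      have hyspan : y.at' l₀ = x.at' i.val ⊔ Submodule.span F {w} := by
        refine (Submodule.eq_of_le_of_finrank_le (sup_le (hlow ▸ y.at_mono (by omega))
          ((Submodule.span_singleton_le_iff_mem _ _).2 hw.1)) ?_).symm
        rw [y.at_rank hl₀]
        have hlt : x.at' i.val < x.at' i.val ⊔ Submodule.span F {w} :=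
          lt_of_le_of_ne le_sup_left fun e => hwlow (e.symm ▸ Submodule.mem_sup_right
            (Submodule.mem_span_singleton_self w))
        have := Submodule.finrank_lt_finrank_of_lt hlt
        rw [x.at_rank i.isLt.le] at this
        omega
      have hpol : ∀ z ∈ y.at' l₀, polar Q z v = 0 := by
        intro z hz
        rw [hyspan, Submodule.mem_sup] at hz
        obtain ⟨a, ha, b, hb, rfl⟩ := hz
        obtain ⟨c, rfl⟩ := Submodule.mem_span_singleton.1 hb
        rw [polar_add_left', polar_smul_left', x.at_polar (x.at_mono (Nat.le_succ _) ha) hv,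
          P.polar_S_S hSw hSv]
        ring
      have hvy : v ∉ y.at' l₀ := fun h => hv' (by rw [← hinf]; exact ⟨hv, h⟩)
      have hsing : ∀ z ∈ y.at' l₀ ⊔ Submodule.span F {v}, Q z = 0 := by
        intro z hz
        rw [Submodule.mem_sup] at hz
        obtain ⟨a, ha, b, hb, rfl⟩ := hz
        obtain ⟨c, rfl⟩ := Submodule.mem_span_singleton.1 hb
        rw [apply_add, apply_smul, y.at_sing ha, x.at_sing hv, polar_smul_right', hpol a ha]
        ring
      have h1 := P.finrank_sing_le hQ hsing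
      have hlt : y.at' l₀ < y.at' l₀ ⊔ Submodule.span F {v} :=
        lt_of_le_of_ne le_sup_left fun e => hvy (e.symm ▸ Submodule.mem_sup_right
          (Submodule.mem_span_singleton_self v))
      have h2 := Submodule.finrank_lt_finrank_of_lt hlt
      rw [y.at_rank hl₀] at h2
      omega
  have hbig : ∀ k, j ≤ k → Module.finrank F ↥(x.at' i.val ⊓ P.E k) < Module.finrank F ↥(x.at' l₀ ⊓ P.E k) :=
    fun k hk => Submodule.finrank_lt_finrank_of_lt (lt_of_le_of_ne (inf_le_inf_right _ (x.at_mono (by omega)))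
      fun e => hv' ((e.symm ▸ (⟨hv, P.E_mono hk hvE⟩ : v ∈ x.at' l₀ ⊓ P.E k) : v ∈ x.at' i.val ⊓ P.E k)).1)
  have hle1 : ∀ k, Module.finrank F ↥(y.at' l₀ ⊓ P.E k) ≤ Module.finrank F ↥(x.at' i.val ⊓ P.E k) + 1 := by
    intro k
    have h := Submodule.finrank_sup_add_finrank_inf_eq (y.at' l₀ ⊓ P.E k) (x.at' i.val)
    have e : y.at' l₀ ⊓ P.E k ⊓ x.at' i.val = x.at' i.val ⊓ P.E k := by
      refine le_antisymm (le_inf inf_le_right (inf_le_left.trans inf_le_right)) ?_
      exact le_inf (inf_le_inf_right _ (hlow ▸ y.at_mono (by omega))) inf_le_left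
    have h2 := Submodule.finrank_mono
      (sup_le (inf_le_left : y.at' l₀ ⊓ P.E k ≤ y.at' l₀) (hlow ▸ y.at_mono (by omega) : x.at' i.val ≤ y.at' l₀))
    rw [e, x.at_rank i.isLt.le] at h
    rw [y.at_rank hl₀] at h2
    omega
  have hcomp : ∀ k, Module.finrank F ↥(y.at' l₀ ⊓ P.E k) ≤ Module.finrank F ↥(x.at' l₀ ⊓ P.E k) := by
    intro k
    rcases le_or_gt j k with h | h
    · have := hbig k h; have := hle1 k; omega
    · exact Submodule.finrank_mono (le_inf ((hsmall k h.le).trans (x.at_mono (by omega))) inf_le_right)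
  have hbound : ∀ k, Module.finrank F ↥(x.at' l₀ ⊓ P.E k) ≤ m := fun k =>
    (Submodule.finrank_mono inf_le_left).trans ((x.at_rank hl₀).le.trans hl₀)
  refine Finset.sum_lt_sum (fun l hl => ?_) ⟨l₀, mem_range.2 (by omega), ?_⟩
  · rw [mem_range] at hl
    by_cases h : l = l₀
    · subst h
      exact sum_le_sum fun k _ => Nat.sub_le_sub_left (hcomp k) _
    · rw [hxy l (by omega) h]
  · refine sum_lt_sum (fun k _ => Nat.sub_le_sub_left (hcomp k) _) ⟨j, mem_range.2 ?_, ?_⟩
    · have := x.jump_le P hm i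
      show x.jump P hm i < 2 * m + 1
      omega
    · have h1 := hbig j le_rfl
      have h2 := Submodule.finrank_mono (le_inf (hsmall j le_rfl) inf_le_right :
        y.at' l₀ ⊓ P.E j ≤ x.at' i.val ⊓ P.E j)
      have := hbound j
      omega

/-- Opposite to the base flag. -/
def Opp : Prop := ∀ i : Fin m, ∃ v ∈ x.at' (i.val + 1), (∀ l < i, polar Q v (P.e l) = 0) ∧ polar Q v (P.e i) = 1

theorem opp_of_no_asc (h : ∀ i, ¬ x.Asc P hm i) : x.Opp P := by
  have hdec : ∀ (i : Fin m) (hi : i.val + 1 < m), x.jump P hm ⟨i.val + 1, hi⟩ < x.jump P hm i := fun i hi =>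
    not_le.1 fun hle => h i (Or.inl ⟨hi, hle⟩)
  have hlow : ∀ t (ht : t < m), m + 1 + t ≤ x.jump P hm ⟨m - 1 - t, by omega⟩ := by
    intro t
    induction t with
    | zero =>
      intro ht
      have := not_le.1 fun hle => h ⟨m - 1 - 0, by omega⟩ (Or.inr ⟨by show m - 1 - 0 + 1 = m; omega, hle⟩)
      omega
    | succ t ih =>
      intro ht
      have h1 := hdec ⟨m - 1 - (t + 1), by omega⟩ (by show m - 1 - (t + 1) + 1 < m; omega)
      have h2 := ih (by omega)
      have h3 := lt_of_eq_of_lt (congrArg (x.jump P hm)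
        (Fin.ext (show m - 1 - t = m - 1 - (t + 1) + 1 by omega) :
          (⟨m - 1 - t, by omega⟩ : Fin m) = ⟨m - 1 - (t + 1) + 1, by omega⟩)) h1
      exact Nat.succ_le_of_lt (lt_of_le_of_lt h2 h3)
  have hup : ∀ n (hn : n < m), x.jump P hm ⟨n, hn⟩ ≤ 2 * m - n := by
    intro n
    induction n with
    | zero => intro hn; exact x.jump_le P hm _
    | succ n ih =>
      intro hn
      have h1 : x.jump P hm ⟨n + 1, hn⟩ < x.jump P hm ⟨n, by omega⟩ := hdec ⟨n, by omega⟩ hn
      have h2 := ih (by omega)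
      omega
  intro i
  have hj : x.jump P hm i = 2 * m - i.val := by
    have h1 := hup i.val i.isLt
    have h2 := hlow (m - 1 - i.val) (by omega)
    have e : (⟨m - 1 - (m - 1 - i.val), by omega⟩ : Fin m) = i := Fin.ext (show m - 1 - (m - 1 - i.val) = i.val by omega)
    rw [e] at h2
    simp only [Fin.eta] at h1
    omega
  obtain ⟨v, ⟨hv, hvE⟩, hv'⟩ := SetLike.not_le_iff_exists.1 (x.jump_spec P hm i)
  rw [hj, Frame.E, if_neg (by omega), show 2 * m - (2 * m - i.val) = i.val by omega] at hvE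
  have hne : polar Q v (P.e i) ≠ 0 := by
    intro h0
    refine hv' (x.le_of_lt_jump P hm i (k := 2 * m - i.val - 1) (by omega) ⟨hv, ?_⟩)
    have hO : v ∈ P.O (i.val + 1) := fun l hl => by
      rcases Nat.lt_succ_iff_lt_or_eq.1 hl with h' | h'
      · exact hvE l h'
      · rw [show l = i from Fin.ext h']; exact h0
    unfold Frame.E
    split_ifs with hk
    · rw [show 2 * m - i.val - 1 = m by omega]
      exact P.sing_O (fun l _ => hO l (by have := l.isLt; omega)) (x.at_sing hv)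
    · rwa [show 2 * m - (2 * m - i.val - 1) = i.val + 1 by omega]
  refine ⟨(polar Q v (P.e i))⁻¹ • v, Submodule.smul_mem _ _ hv, fun l hl => ?_, ?_⟩
  · rw [polar_smul_left', hvE l hl, mul_zero]
  · rw [polar_smul_left', inv_mul_cancel₀ hne]

theorem exists_translate (hQ : (polarBilin Q).Nondegenerate) (h : x.Opp P) :
    ∃ u ∈ P.U hQ, ∀ l : Fin m, ((u : OQ Q) : V ≃ₗ[F] V) (P.f l) ∈ x.at' (l.val + 1) := by
  suffices H : ∀ k, k ≤ m → ∃ u ∈ P.U hQ, ∀ l : Fin m, l.val < k →
      ((u : OQ Q) : V ≃ₗ[F] V) (P.f l) ∈ x.at' (l.val + 1) by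
    obtain ⟨u, hu, h'⟩ := H m le_rfl
    exact ⟨u, hu, fun l => h' l l.isLt⟩
  intro k
  induction k with
  | zero => exact fun _ => ⟨1, one_mem _, fun l hl => absurd hl (Nat.not_lt_zero _)⟩
  | succ k ih =>
    intro hk
    obtain ⟨u, hu, hul⟩ := ih (by omega)
    obtain ⟨v, hv, hv0, hv1⟩ := h ⟨k, hk⟩
    have hun := (P.isUnip_of_mem hQ hu).inv P
    set w := ((u⁻¹ : OQ Q) : V ≃ₗ[F] V) v with hw
    have huw : (u : V ≃ₗ[F] V) w = v := (u : V ≃ₗ[F] V).apply_symm_apply v
    obtain ⟨a, ha⟩ := P.exists_gen_f hQ (k := ⟨k, hk⟩) (v := w) (by rw [OQ.map_apply, x.at_sing hv])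
      (fun l hl => by rw [hun.polar_e_eq P (i := ⟨k, hk⟩) hl.le hv0, hv0 l hl])
      (fun l hl => by
        have hl' : l.val < k := Fin.lt_def.1 hl
        rw [← OQ.map_polar u, huw]
        exact x.at_polar hv (x.at_mono (by show l.val + 1 ≤ k + 1; omega) (hul l hl')))
      (by rw [hun.polar_e P hv0, hv1])
    refine ⟨u * P.gen hQ ⟨k, hk⟩ a, mul_mem hu (P.gen_mem_U hQ _ _), fun l hl => ?_⟩
    show (u : V ≃ₗ[F] V) ((P.gen hQ ⟨k, hk⟩ a : V ≃ₗ[F] V) (P.f l)) ∈ _
    rcases Nat.lt_succ_iff_lt_or_eq.1 hl with hlt | heq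
    · rw [P.gen_f_lt hQ a (Fin.lt_def.2 hlt)]
      exact hul l hlt
    · obtain rfl : l = ⟨k, hk⟩ := Fin.ext heq
      rw [ha, huw]
      exact hv

theorem Opp.smul {P : Frame Q m} {x : Chamber Q m} (h : x.Opp P) {u : OQ Q} (hu : P.IsUnip u) :
    (u • x).Opp P := by
  intro i
  obtain ⟨v, hv, h0, h1⟩ := h i
  refine ⟨(u : V ≃ₗ[F] V) v, ⟨v, hv, rfl⟩, fun l hl => ?_, ?_⟩
  · rw [hu.polar_e_eq P hl.le h0, h0 l hl]
  · rw [hu.polar_e P h0, h1]

end Chamber

end CfsgLib.OrthFlags
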