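import Cfsg.Agent.Lib.Classical.Quad.Eichler
import Mathlib.GroupTheory.PGroup

/-!
# The unipotent group of a hyperbolic frame
-/

set_option autoImplicit false

namespace CfsgLib.OrthFlags

open QuadraticMap (polar polarBilin)
open CfsgLib.Classical.Quad Finset

variable {F : Type*} [Field F] {V : Type*} [AddCommGroup V] [Module F V]

/-- Hyperbolic pairs with anisotropic common orthogonal complement. -/
structure Frame (Q : QuadraticForm F V) (m : ℕ) where
  e : Fin m → V
  f : Fin m → V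
  qe : ∀ i, Q (e i) = 0
  qf : ∀ i, Q (f i) = 0
  ef : ∀ i j, polar Q (e i) (f j) = if i = j then 1 else 0
  ee : ∀ i j, polar Q (e i) (e j) = 0
  ff : ∀ i j, polar Q (f i) (f j) = 0
  aniso : ∀ w, (∀ i, polar Q w (e i) = 0) → (∀ i, polar Q w (f i) = 0) → Q w = 0 → w = 0

namespace Frame

variable {Q : QuadraticForm F V} {m : ℕ} (P : Frame Q m)

theorem fe (i j : Fin m) : polar Q (f P i) (e P j) = if j = i then 1 else 0 := by
  rw [QuadraticMap.polar_comm, P.ef]

theorem polar_sum_left (c : Fin m → F) (x : Fin m → V) (y : V) :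
    polar Q (∑ i, c i • x i) y = ∑ i, c i * polar Q (x i) y := by
  have h := LinearMap.map_sum₂ (polarBilin Q) univ (fun i => c i • x i) y
  simp only [QuadraticMap.polarBilin_apply_apply] at h
  rw [h]
  exact sum_congr rfl fun i _ => by rw [polar_smul_left']

/-- The component orthogonal to the frame. -/
def rest (z : V) : V := z - ∑ i, polar Q z (P.f i) • P.e i - ∑ i, polar Q z (P.e i) • P.f i

theorem rest_e (z : V) (j : Fin m) : polar Q (P.rest z) (P.e j) = 0 := by
  rw [rest, QuadraticMap.polar_sub_left, QuadraticMap.polar_sub_left, polar_sum_left, polar_sum_left]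
  simp [P.ee, P.fe]

theorem rest_f (z : V) (j : Fin m) : polar Q (P.rest z) (P.f j) = 0 := by
  rw [rest, QuadraticMap.polar_sub_left, QuadraticMap.polar_sub_left, polar_sum_left, polar_sum_left]
  simp [P.ef, P.ff]

theorem decomp (z : V) :
    z = ∑ i, polar Q z (P.f i) • P.e i + ∑ i, polar Q z (P.e i) • P.f i + P.rest z := by
  rw [rest]; abel

/-- The span of the first `k` vectors `e`. -/
def S (k : ℕ) : Submodule F V := Submodule.span F (P.e '' {i | i.val < k})

theorem e_mem_S {i : Fin m} {k : ℕ} (h : i.val < k) : P.e i ∈ P.S k :=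
  Submodule.subset_span ⟨i, h, rfl⟩

theorem S_mono {k l : ℕ} (h : k ≤ l) : P.S k ≤ P.S l :=
  Submodule.span_mono (Set.image_mono fun _ hi => lt_of_lt_of_le hi h)

theorem S_zero : P.S 0 = ⊥ := by simp [S]

theorem polar_S_e {z : V} {k : ℕ} (hz : z ∈ P.S k) (j : Fin m) : polar Q z (P.e j) = 0 := by
  induction hz using Submodule.span_induction with
  | mem x hx => obtain ⟨i, -, rfl⟩ := hx; exact P.ee i j
  | zero => exact QuadraticMap.polar_zero_left _ _
  | add x y _ _ hx hy => rw [polar_add_left', hx, hy, add_zero]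
  | smul c x _ hx => rw [polar_smul_left', hx, mul_zero]

theorem polar_S_f {z : V} {k : ℕ} (hz : z ∈ P.S k) (j : Fin m) (hj : k ≤ j.val) : polar Q z (P.f j) = 0 := by
  induction hz using Submodule.span_induction with
  | mem x hx =>
    obtain ⟨i, hi, rfl⟩ := hx
    have hi' : i.val < k := hi
    rw [P.ef, if_neg (fun h => by omega)]
  | zero => exact QuadraticMap.polar_zero_left _ _
  | add x y _ _ hx hy => rw [polar_add_left', hx, hy, add_zero]
  | smul c x _ hx => rw [polar_smul_left', hx, mul_zero]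

theorem polar_S_S {x y : V} {k : ℕ} (hx : x ∈ P.S k) (hy : y ∈ P.S k) : polar Q x y = 0 := by
  induction hy using Submodule.span_induction with
  | mem w hw => obtain ⟨i, -, rfl⟩ := hw; exact P.polar_S_e hx i
  | zero => exact QuadraticMap.polar_zero_right _ _
  | add a b _ _ ha hb => rw [polar_add_right', ha, hb, add_zero]
  | smul c a _ ha => rw [polar_smul_right', ha, mul_zero]

theorem sing_S {z : V} {k : ℕ} (hz : z ∈ P.S k) : Q z = 0 := by
  induction hz using Submodule.span_induction with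
  | mem x hx => obtain ⟨i, -, rfl⟩ := hx; exact P.qe i
  | zero => exact QuadraticMap.map_zero _
  | add x y hx' hy' hx hy => rw [apply_add, hx, hy, P.polar_S_S hx' hy']; simp
  | smul c x _ hx => rw [apply_smul, hx, mul_zero]

/-- The orthogonal of the span of the first `k` vectors `e`. -/
def O (k : ℕ) : Submodule F V where
  carrier := {z | ∀ i : Fin m, i.val < k → polar Q z (P.e i) = 0}
  add_mem' hx hy i hi := by rw [polar_add_left', hx i hi, hy i hi, add_zero]
  zero_mem' i _ := QuadraticMap.polar_zero_left _ _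
  smul_mem' c x hx i hi := by rw [polar_smul_left', hx i hi, mul_zero]

theorem mem_O {z : V} {k : ℕ} : z ∈ P.O k ↔ ∀ i : Fin m, i.val < k → polar Q z (P.e i) = 0 := Iff.rfl

theorem S_le_O (k l : ℕ) : P.S k ≤ P.O l := fun _ hz i _ => P.polar_S_e hz i

theorem O_zero : P.O 0 = ⊤ := eq_top_iff.2 fun _ _ i hi => absurd hi (Nat.not_lt_zero _)

theorem O_anti {k l : ℕ} (h : k ≤ l) : P.O l ≤ P.O k := fun _ hz i hi => hz i (lt_of_lt_of_le hi h)

theorem mem_S_iff {z : V} {k : ℕ} : z ∈ P.S k ↔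
    (∀ i, polar Q z (P.e i) = 0) ∧ (∀ i : Fin m, k ≤ i.val → polar Q z (P.f i) = 0) ∧ P.rest z = 0 := by
  constructor
  · intro hz
    refine ⟨P.polar_S_e hz, P.polar_S_f hz, ?_⟩
    induction hz using Submodule.span_induction with
    | mem x hx =>
      obtain ⟨i, -, rfl⟩ := hx
      simp [rest, P.ee, P.ef]
    | zero => simp [rest]
    | add x y _ _ hx hy =>
      simp only [rest, polar_add_left', add_smul, sum_add_distrib] at hx hy ⊢
      calc _ = (x - (∑ i, polar Q x (P.f i) • P.e i) - ∑ i, polar Q x (P.e i) • P.f i) +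
            (y - (∑ i, polar Q y (P.f i) • P.e i) - ∑ i, polar Q y (P.e i) • P.f i) := by abel
        _ = 0 := by rw [hx, hy, add_zero]
    | smul c x _ hx =>
      simp only [rest, polar_smul_left', mul_smul, ← smul_sum, ← smul_sub] at hx ⊢
      rw [hx, smul_zero]
  · rintro ⟨he, hf, hr⟩
    have e := P.decomp z
    rw [hr, add_zero, sum_eq_zero (fun i _ => by rw [he, zero_smul] : ∀ i ∈ univ, polar Q z (P.e i) • P.f i = 0),
      add_zero] at e
    rw [e]
    refine Submodule.sum_mem _ fun i _ => ?_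
    by_cases hi : i.val < k
    · exact Submodule.smul_mem _ _ (P.e_mem_S hi)
    · rw [hf i (not_lt.1 hi), zero_smul]; exact zero_mem _

theorem sing_O {z : V} (hz : z ∈ P.O m) (hq : Q z = 0) : z ∈ P.S m := by
  have he : ∀ i, polar Q z (P.e i) = 0 := fun i => hz i i.isLt
  refine P.mem_S_iff.2 ⟨he, fun i hi => absurd i.isLt (not_lt.2 hi), ?_⟩
  refine P.aniso _ (P.rest_e z) (P.rest_f z) ?_
  have e := P.decomp z
  rw [sum_eq_zero (fun i _ => by rw [he, zero_smul] : ∀ i ∈ univ, polar Q z (P.e i) • P.f i = 0), add_zero] at e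
  rw [e, apply_add, P.sing_S (k := m) (Submodule.sum_mem _ fun i _ => Submodule.smul_mem _ _ (P.e_mem_S i.isLt)),
    polar_sum_left] at hq
  simpa [QuadraticMap.polar_comm (⇑Q) (P.e _), P.rest_e] using hq

theorem linearIndependent_f : LinearIndependent F P.f := by
  rw [Fintype.linearIndependent_iff]
  intro c hc j
  have h := congrArg (fun v => polar Q v (P.e j)) hc
  simpa [polar_sum_left, P.fe, QuadraticMap.polar_zero_left] using h

section Unip

variable [FiniteDimensional F V] (hQ : (polarBilin Q).Nondegenerate)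

/-- The vectors allowed at step `k`. -/
def A (k : Fin m) : Submodule F V where
  carrier := {a | ∀ l : Fin m, l ≤ k → polar Q (P.e l) a = 0 ∧ polar Q (P.f l) a = 0}
  add_mem' hx hy l hl := ⟨by rw [polar_add_right', (hx l hl).1, (hy l hl).1, add_zero],
    by rw [polar_add_right', (hx l hl).2, (hy l hl).2, add_zero]⟩
  zero_mem' l _ := ⟨QuadraticMap.polar_zero_right _ _, QuadraticMap.polar_zero_right _ _⟩
  smul_mem' c x hx l hl := ⟨by rw [polar_smul_right', (hx l hl).1, mul_zero],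
    by rw [polar_smul_right', (hx l hl).2, mul_zero]⟩

/-- The Eichler generators. -/
noncomputable def gen (k : Fin m) (a : P.A k) : OQ Q := eich hQ (P.qe k) (a.2 k le_rfl).1

theorem gen_apply (k : Fin m) (a : P.A k) (z : V) : (P.gen hQ k a : V ≃ₗ[F] V) z =
    z + (polar Q z a - Q (a : V) * polar Q z (P.e k)) • P.e k + (-polar Q z (P.e k)) • (a : V) :=
  eich_apply hQ _ _ z

theorem gen_f_lt {k l : Fin m} (a : P.A k) (h : l < k) : (P.gen hQ k a : V ≃ₗ[F] V) (P.f l) = P.f l := by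
  rw [P.gen_apply, (a.2 l h.le).2, P.fe, if_neg (ne_of_gt h)]
  simp

theorem gen_e_lt {k l : Fin m} (a : P.A k) (h : l < k) : (P.gen hQ k a : V ≃ₗ[F] V) (P.e l) = P.e l := by
  rw [P.gen_apply, (a.2 l h.le).1, P.ee]
  simp

theorem gen_f_self (k : Fin m) (a : P.A k) :
    (P.gen hQ k a : V ≃ₗ[F] V) (P.f k) = P.f k + (-Q (a : V)) • P.e k + (-(1 : F)) • (a : V) := by
  rw [P.gen_apply, (a.2 k le_rfl).2, P.fe, if_pos rfl]
  simp

theorem exists_gen_f {k : Fin m} {v : V} (hq : Q v = 0) (he : ∀ l < k, polar Q v (P.e l) = 0)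
    (hf : ∀ l < k, polar Q v (P.f l) = 0) (hk : polar Q v (P.e k) = 1) :
    ∃ a : P.A k, (P.gen hQ k a : V ≃ₗ[F] V) (P.f k) = v := by
  set c := polar Q v (P.f k) with hc
  have ha : -(v - P.f k - c • P.e k) ∈ P.A k := by
    refine neg_mem fun l hl => ?_
    rcases hl.lt_or_eq with h | rfl
    · rw [QuadraticMap.polar_sub_right, QuadraticMap.polar_sub_right, QuadraticMap.polar_sub_right,
        QuadraticMap.polar_sub_right, polar_smul_right', polar_smul_right', P.ef, P.ee, P.ff, P.fe,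
        if_neg (ne_of_lt h), if_neg (ne_of_gt h), QuadraticMap.polar_comm (⇑Q) (P.e l) v,
        QuadraticMap.polar_comm (⇑Q) (P.f l) v, he l h, hf l h]
      simp
    · rw [QuadraticMap.polar_sub_right, QuadraticMap.polar_sub_right, QuadraticMap.polar_sub_right,
        QuadraticMap.polar_sub_right, polar_smul_right', polar_smul_right', P.ef, P.ee, P.ff, P.fe,
        if_pos rfl, QuadraticMap.polar_comm (⇑Q) (P.e l) v,
        QuadraticMap.polar_comm (⇑Q) (P.f l) v, hk, ← hc]
      simp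
  refine ⟨⟨_, ha⟩, ?_⟩
  rw [P.gen_f_self]
  show P.f k + (-Q (-(v - P.f k - c • P.e k))) • P.e k + (-(1 : F)) • (-(v - P.f k - c • P.e k)) = v
  have hqa : Q (v - P.f k - c • P.e k) = -c := by
    have hv : v = (v - P.f k - c • P.e k) + (P.f k + c • P.e k) := by abel
    have h1 : Q (P.f k + c • P.e k) = c := by
      rw [apply_add, apply_smul, P.qf, P.qe, polar_smul_right', P.fe, if_pos rfl]; ring
    have h2 : polar Q (v - P.f k - c • P.e k) (P.f k + c • P.e k) = 0 := by
      have h := neg_mem ha k le_rfl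
      rw [neg_neg, QuadraticMap.polar_comm (⇑Q) (P.e k), QuadraticMap.polar_comm (⇑Q) (P.f k)] at h
      rw [polar_add_right', polar_smul_right', h.2, h.1, mul_zero, add_zero]
    rw [hv, apply_add, h1, h2, add_zero] at hq
    exact eq_neg_of_add_eq_zero_left hq
  rw [QuadraticMap.map_neg, hqa]
  module

/-- The unipotent group of the frame. -/
noncomputable def U : Subgroup (OQ Q) := Subgroup.closure {g | ∃ k a, g = P.gen hQ k a}

theorem gen_mem_U (k : Fin m) (a : P.A k) : P.gen hQ k a ∈ P.U hQ := Subgroup.subset_closure ⟨k, a, rfl⟩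

theorem U_le_commutator [Finite F] (hn : 5 ≤ Module.finrank F V) : P.U hQ ≤ commutator (OQ Q) :=
  (Subgroup.closure_le _).2 fun _ ⟨_, _, h⟩ => h ▸ eich_mem_commutator hQ hn _ _

/-- Moving the standard vectors `e` upwards and acting trivially modulo `S m` on `O m`. -/
def IsUnip (g : OQ Q) : Prop :=
  (∀ k : Fin m, (g : V ≃ₗ[F] V) (P.e k) - P.e k ∈ P.S k) ∧
    ∀ z ∈ P.O m, (g : V ≃ₗ[F] V) z - z ∈ P.S m

omit [FiniteDimensional F V] in
theorem IsUnip.map_S {g : OQ Q} (hg : P.IsUnip g) (k : ℕ) :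
    (P.S k).map ((g : V ≃ₗ[F] V) : V →ₗ[F] V) ≤ P.S k := by
  rw [S, Submodule.map_span, Submodule.span_le]
  rintro _ ⟨_, ⟨i, hi, rfl⟩, rfl⟩
  show (g : V ≃ₗ[F] V) (P.e i) ∈ P.S k
  have h := (P.S k).add_mem (P.S_mono (le_of_lt hi) (hg.1 i)) (P.e_mem_S hi)
  rwa [sub_add_cancel] at h

theorem IsUnip.mul {g h : OQ Q} (hg : P.IsUnip g) (hh : P.IsUnip h) : P.IsUnip (g * h) := by
  refine ⟨fun k => ?_, fun z hz => ?_⟩
  · show (g : V ≃ₗ[F] V) ((h : V ≃ₗ[F] V) (P.e k)) - P.e k ∈ _
    rw [show (g : V ≃ₗ[F] V) ((h : V ≃ₗ[F] V) (P.e k)) - P.e k =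
      (g : V ≃ₗ[F] V) ((h : V ≃ₗ[F] V) (P.e k) - P.e k) + ((g : V ≃ₗ[F] V) (P.e k) - P.e k) by
        rw [map_sub]; abel]
    exact add_mem (hg.map_S P k ⟨_, hh.1 k, rfl⟩) (hg.1 k)
  · show (g : V ≃ₗ[F] V) ((h : V ≃ₗ[F] V) z) - z ∈ _
    rw [show (g : V ≃ₗ[F] V) ((h : V ≃ₗ[F] V) z) - z =
      (g : V ≃ₗ[F] V) ((h : V ≃ₗ[F] V) z - z) + ((g : V ≃ₗ[F] V) z - z) by rw [map_sub]; abel]
    exact add_mem (hg.map_S P m ⟨_, hh.2 z hz, rfl⟩) (hg.2 z hz)

theorem IsUnip.inv {g : OQ Q} (hg : P.IsUnip g) : P.IsUnip g⁻¹ := by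
  have hinv : ∀ k, ∀ y ∈ P.S k, (g : V ≃ₗ[F] V).symm y ∈ P.S k := fun k y hy => by
    have e : (P.S k).map ((g : V ≃ₗ[F] V) : V →ₗ[F] V) = P.S k :=
      Submodule.eq_of_le_of_finrank_eq (hg.map_S P k) (LinearEquiv.finrank_map_eq _ _)
    rw [← e] at hy
    obtain ⟨x, hx, rfl⟩ := hy
    simpa using hx
  refine ⟨fun k => ?_, fun z hz => ?_⟩
  · show (g : V ≃ₗ[F] V).symm (P.e k) - P.e k ∈ _
    have h := neg_mem (hinv k _ (hg.1 k))
    rwa [map_sub, LinearEquiv.symm_apply_apply, neg_sub] at h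
  · show (g : V ≃ₗ[F] V).symm z - z ∈ _
    have h := neg_mem (hinv m _ (hg.2 z hz))
    rwa [map_sub, LinearEquiv.symm_apply_apply, neg_sub] at h

theorem isUnip_gen (k : Fin m) (a : P.A k) : P.IsUnip (P.gen hQ k a) := by
  refine ⟨fun l => ?_, fun z hz => ?_⟩
  · rw [P.gen_apply, P.ee]
    rcases le_or_gt l k with h | h
    · rw [(a.2 l h).1]; simp
    · simpa using (P.S l.val).smul_mem _ (P.e_mem_S h)
  · rw [P.gen_apply, hz k k.isLt]
    simpa using (P.S m).smul_mem _ (P.e_mem_S k.isLt)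

theorem isUnip_of_mem {g : OQ Q} (hg : g ∈ P.U hQ) : P.IsUnip g := by
  induction hg using Subgroup.closure_induction with
  | mem x hx => obtain ⟨k, a, rfl⟩ := hx; exact P.isUnip_gen hQ k a
  | one => exact ⟨fun k => by simp, fun z _ => by simp⟩
  | mul x y _ _ hx hy => exact hx.mul P hy
  | inv x _ hx => exact hx.inv P

/-- Pairings with the vectors `e` are triangular. -/
theorem IsUnip.polar_e {g : OQ Q} (hg : P.IsUnip g) {v : V} {i : Fin m}
    (h : ∀ l < i, polar Q v (P.e l) = 0) :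
    polar Q ((g : V ≃ₗ[F] V) v) (P.e i) = polar Q v (P.e i) := by
  have hi := (hg.inv P).1 i
  have e0 : polar Q v ((g : V ≃ₗ[F] V).symm (P.e i) - P.e i) = 0 := by
    have key : ∀ y ∈ P.S i.val, polar Q v y = 0 := fun y hy => by
      induction hy using Submodule.span_induction with
      | mem x hx => obtain ⟨l, hl, rfl⟩ := hx; exact h l hl
      | zero => exact QuadraticMap.polar_zero_right _ _
      | add a b _ _ ha hb => rw [polar_add_right', ha, hb, add_zero]
      | smul c a _ ha => rw [polar_smul_right', ha, mul_zero]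
    exact key _ hi
  rw [QuadraticMap.polar_sub_right, sub_eq_zero] at e0
  rw [← e0]
  conv_lhs => rw [← (g : V ≃ₗ[F] V).apply_symm_apply (P.e i)]
  exact OQ.map_polar g _ _

theorem IsUnip.polar_e_eq {g : OQ Q} (hg : P.IsUnip g) {v : V} {i l : Fin m} (hli : l ≤ i)
    (h : ∀ l < i, polar Q v (P.e l) = 0) :
    polar Q ((g : V ≃ₗ[F] V) v) (P.e l) = polar Q v (P.e l) :=
  hg.polar_e P fun l' hl' => h l' (lt_of_lt_of_le hl' hli)

/-- An element of the unipotent group fixing the opposite flag is trivial. -/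
theorem IsUnip.eq_one {g : OQ Q} (hg : P.IsUnip g)
    (hf : ∀ k : Fin m, (g : V ≃ₗ[F] V) (P.f k) ∈ Submodule.span F (P.f '' {i | i ≤ k})) : g = 1 := by
  have key : ∀ n : ℕ, ∀ k : Fin m, k.val = n →
      (g : V ≃ₗ[F] V) (P.e k) = P.e k ∧ (g : V ≃ₗ[F] V) (P.f k) = P.f k := by
    intro n
    induction n using Nat.strong_induction_on with
    | _ n ih =>
      rintro k rfl
      have ih' : ∀ l < k, (g : V ≃ₗ[F] V) (P.e l) = P.e l ∧ (g : V ≃ₗ[F] V) (P.f l) = P.f l :=
        fun l hl => ih l.val hl l rfl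
      have he : (g : V ≃ₗ[F] V) (P.e k) = P.e k := by
        have hs := P.mem_S_iff.1 (hg.1 k)
        rw [← sub_eq_zero]
        have h0 : (g : V ≃ₗ[F] V) (P.e k) - P.e k ∈ P.S 0 := by
          refine P.mem_S_iff.2 ⟨hs.1, fun i _ => ?_, hs.2.2⟩
          by_cases hi : i < k
          · rw [QuadraticMap.polar_sub_left]
            conv_lhs => arg 1; rw [← (ih' i hi).2]
            rw [OQ.map_polar, P.ef, if_neg (ne_of_gt hi), sub_self]
          · exact hs.2.1 i (not_lt.1 hi)
        rw [P.S_zero] at h0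
        exact h0
      refine ⟨he, ?_⟩
      obtain ⟨c, hc0, hsum⟩ : ∃ c : Fin m → F, (∀ i, ¬ i ≤ k → c i = 0) ∧
          (g : V ≃ₗ[F] V) (P.f k) = ∑ i, c i • P.f i := by
        obtain ⟨c, hsup, hc⟩ := (Finsupp.mem_span_image_iff_linearCombination F).1 (hf k)
        refine ⟨c, fun i hi => Finsupp.notMem_support_iff.1 fun h => hi (hsup h), ?_⟩
        rw [← hc, Finsupp.linearCombination_apply]
        exact Finsupp.sum_fintype _ _ fun i => zero_smul F _
      have hc : ∀ l, l ≤ k → c l = if l = k then 1 else 0 := fun l hl => by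
        have h1 : polar Q ((g : V ≃ₗ[F] V) (P.f k)) (P.e l) = c l := by
          rw [hsum, polar_sum_left]; simp [P.fe]
        have h2 : (g : V ≃ₗ[F] V) (P.e l) = P.e l := by
          rcases hl.lt_or_eq with h | h
          · exact (ih' l h).1
          · exact h ▸ he
        rw [← h1, ← h2, OQ.map_polar, P.fe]
      rw [hsum]
      refine (sum_eq_single k (fun i _ hi => ?_) (fun h => absurd (mem_univ k) h)).trans ?_
      · by_cases hik : i ≤ k
        · rw [hc i hik, if_neg hi, zero_smul]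
        · rw [hc0 i hik, zero_smul]
      · rw [hc k le_rfl, if_pos rfl, one_smul]
  have he : ∀ k, (g : V ≃ₗ[F] V) (P.e k) = P.e k := fun k => (key _ k rfl).1
  have hff : ∀ k, (g : V ≃ₗ[F] V) (P.f k) = P.f k := fun k => (key _ k rfl).2
  refine Subtype.ext (LinearEquiv.ext fun z => ?_)
  show (g : V ≃ₗ[F] V) z = z
  have hr : (g : V ≃ₗ[F] V) (P.rest z) = P.rest z := by
    have hs := P.mem_S_iff.1 (hg.2 _ (fun i _ => P.rest_e z i))
    have h0 : (g : V ≃ₗ[F] V) (P.rest z) - P.rest z ∈ P.S 0 := by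
      refine P.mem_S_iff.2 ⟨hs.1, fun i _ => ?_, hs.2.2⟩
      rw [QuadraticMap.polar_sub_left]
      conv_lhs => arg 1; rw [← hff i]
      rw [OQ.map_polar, sub_self]
    rw [P.S_zero, Submodule.mem_bot, sub_eq_zero] at h0
    exact h0
  conv_lhs => rw [P.decomp z]
  conv_rhs => rw [P.decomp z]
  simp [map_sum, he, hff, hr]

end Unip

end Frame

end CfsgLib.OrthFlags
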