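import Cfsg.Agent.Lib.Char.Exceptional.Orth.Apartment
import Cfsg.Agent.Lib.Char.Exceptional.SteinbergModule
import Cfsg.Agent.Lib.Classical.Quad.POmega
import Cfsg.Prelude.Def_Characters

/-!
# The Steinberg character of `PΩ` of a form with a hyperbolic frame
-/

set_option autoImplicit false

namespace CfsgLib.OrthFlags

open QuadraticMap (polar polarBilin)
open CfsgLib.Classical.Quad Finset
open scoped commutatorElement

section Reflections

variable {F : Type*} [Field F] [Finite F] {V : Type*} [AddCommGroup V] [Module F V] [FiniteDimensional F V]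
  {Q : QuadraticForm F V} {m : ℕ} (P : Frame Q m) (hQ : (polarBilin Q).Nondegenerate)

include hQ in
theorem refl_pair_mem (hn : 5 ≤ Module.finrank F V) {a b : V} (ha : Q a ≠ 0) (hb : Q b ≠ 0) (h : Q b = Q a) :
    refl ha * refl hb ∈ commutator (OQ Q) := by
  obtain ⟨s, -, e⟩ := exists_move_vector hQ hn ha h
  have e2 : refl hb = s * refl ha * s⁻¹ := by rw [refl_conj]; subst e; rfl
  have h1 : refl ha * refl hb = ⁅(refl ha : OQ Q), s⁆ := by
    rw [e2, commutatorElement_def, inv_eq_of_mul_eq_one_left (refl_mul_self ha)]; group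
  rw [h1]
  exact Subgroup.commutator_mem_commutator (Subgroup.mem_top _) (Subgroup.mem_top _)

omit [Finite F] [FiniteDimensional F V] in
theorem Frame.q_sub (k : Fin m) : Q (P.e k - P.f k) = -1 := by
  rw [sub_eq_add_neg, apply_add, QuadraticMap.map_neg, QuadraticMap.polar_neg_right, P.qe, P.qf, P.ef, if_pos rfl]
  ring

omit [Finite F] [FiniteDimensional F V] in
theorem Frame.q_sub_ne (k : Fin m) : Q (P.e k - P.f k) ≠ 0 := by rw [P.q_sub]; simp

omit [Finite F] [FiniteDimensional F V] in
theorem Frame.refl_e (k l : Fin m) :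
    ((refl (P.q_sub_ne k) : OQ Q) : V ≃ₗ[F] V) (P.e l) = if l = k then P.f l else P.e l := by
  rw [refl_apply, P.q_sub, QuadraticMap.polar_sub_right, P.ee, P.ef]
  by_cases h : l = k
  · subst h; simp
  · simp [h]

omit [Finite F] [FiniteDimensional F V] in
theorem Frame.refl_f (k l : Fin m) :
    ((refl (P.q_sub_ne k) : OQ Q) : V ≃ₗ[F] V) (P.f l) = if l = k then P.e l else P.f l := by
  rw [refl_apply, P.q_sub, QuadraticMap.polar_sub_right, P.fe, P.ff]
  by_cases h : l = k
  · subst h; simp
  · simp [h, Ne.symm h]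

include hQ in
theorem Frame.exists_swap (hn : 5 ≤ Module.finrank F V) : ∀ k, k ≤ m → ∃ g : OQ Q,
    (∀ l : Fin m, (g : V ≃ₗ[F] V) (P.e l) = if l.val < k then P.f l else P.e l) ∧
    (Even k → g ∈ commutator (OQ Q)) ∧
    (Odd k → ∀ (w : V) (hw : Q w ≠ 0), Q w = -1 → refl hw * g ∈ commutator (OQ Q)) := by
  intro k
  induction k with
  | zero =>
    exact fun _ => ⟨1, fun l => by simp, fun _ => one_mem _, fun h => absurd h (by decide)⟩
  | succ k ih =>
    intro hk
    obtain ⟨g, hg, heven, hodd⟩ := ih (by omega)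
    set i : Fin m := ⟨k, hk⟩
    refine ⟨refl (P.q_sub_ne i) * g, fun l => ?_, fun h => ?_, fun h w hw hw1 => ?_⟩
    · show ((refl (P.q_sub_ne i) : OQ Q) : V ≃ₗ[F] V) ((g : V ≃ₗ[F] V) (P.e l)) = _
      rw [hg]
      rcases lt_trichotomy l.val k with h | h | h
      · rw [if_pos h, P.refl_f, if_neg (fun e => by simp [i, Fin.ext_iff] at e; omega), if_pos (by omega)]
      · rw [if_neg (by omega), P.refl_e, if_pos (Fin.ext h), if_pos (by omega)]
      · rw [if_neg (by omega), P.refl_e, if_neg (fun e => by simp [i, Fin.ext_iff] at e; omega), if_neg (by omega)]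
    · exact hodd (Nat.not_even_iff_odd.1 fun hk' => Nat.even_add_one.1 h hk') _ (P.q_sub_ne i) (P.q_sub i)
    · have hev : Even k := Nat.not_odd_iff_even.1 fun hk' => Nat.odd_add_one.1 h hk'
      rw [← mul_assoc]
      exact mul_mem (refl_pair_mem hQ hn hw (P.q_sub_ne i) (by rw [P.q_sub, hw1])) (heven hev)

omit [Finite F] in
theorem Frame.eq_flag {x : Chamber Q m} {a : Apt m} (h : ∀ l : Fin m, P.vec (Frame.coord a l) ∈ x.at' (l.val + 1)) :
    x = P.flag a := by
  refine Chamber.ext' fun i hi => (Submodule.eq_of_le_of_finrank_eq ?_ ?_).symm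
  · rw [P.flag_at a hi, Submodule.span_le]
    rintro _ ⟨_, ⟨l, hl, rfl⟩, rfl⟩
    exact x.at_mono (Nat.succ_le_of_lt hl) (h l)
  · rw [(P.flag a).at_rank hi, x.at_rank hi]

/-- The base flag. -/
def Frame.bot (m : ℕ) : Apt m := (1, fun _ => false)

omit [Finite F] in
theorem Frame.flag_bot_at {i : ℕ} (hi : i ≤ m) : (P.flag (Frame.bot m)).at' i = P.S i := by
  rw [P.flag_at _ hi, Frame.S]
  congr 1
  ext v
  constructor
  · rintro ⟨_, ⟨l, hl, rfl⟩, rfl⟩; exact ⟨l, hl, rfl⟩
  · rintro ⟨l, hl, rfl⟩; exact ⟨_, ⟨l, hl, rfl⟩, rfl⟩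

omit [Finite F] in
/-- Two flags in the last panel when the frame spans. -/
theorem Frame.last_panel (hrest : ∀ w : V, (∀ i, polar Q w (P.e i) = 0) → (∀ i, polar Q w (P.f i) = 0) → w = 0)
    (i : Fin m) (hi : i.val + 1 = m) {y : Chamber Q m} (hy : Chamber.same i (P.flag (Frame.top m)) y) :
    y = P.flag (Frame.top m) ∨ y = P.flag (toggle i (Frame.top m)) := by
  have hlow : ∀ l : Fin m, l ≠ i → P.f l ∈ y.at' (l.val + 1) := fun l hl => by
    rw [← hy (l.val + 1) l.isLt (fun e => hl (Fin.ext (by omega))), P.flag_at _ l.isLt]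
    exact Submodule.subset_span ⟨_, ⟨l, Nat.lt_succ_self _, rfl⟩, rfl⟩
  have hlow' : ∀ l : Fin m, l ≠ i → P.f l ∈ y.at' m := fun l hl => y.at_mono l.isLt (hlow l hl)
  obtain ⟨v, hv, hv'⟩ : ∃ v ∈ y.at' m, v ∉ y.at' i.val := SetLike.not_le_iff_exists.1 fun hle => by
    have := Submodule.finrank_mono hle
    rw [y.at_rank le_rfl, y.at_rank i.isLt.le] at this
    omega
  set z := v - ∑ l ∈ univ.erase i, polar Q v (P.e l) • P.f l with hz
  have hzm : z ∈ y.at' m :=
    sub_mem hv (Submodule.sum_mem _ fun l hl => Submodule.smul_mem _ _ (hlow' l (mem_erase.1 hl).1))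
  have hz0 : z ≠ 0 := by
    intro e
    refine hv' ?_
    rw [sub_eq_zero.1 e]
    refine Submodule.sum_mem _ fun l hl => Submodule.smul_mem _ _ ?_
    have hl' := (mem_erase.1 hl).1
    exact y.at_mono (by have := l.isLt; have : l.val ≠ i.val := fun e => hl' (Fin.ext e); omega) (hlow l hl')
  have hze : ∀ l, l ≠ i → polar Q z (P.e l) = 0 := fun l hl => by
    rw [hz, QuadraticMap.polar_sub_left, show polar Q (∑ j ∈ univ.erase i, polar Q v (P.e j) • P.f j) (P.e l) = ∑ j ∈ univ.erase i, polar Q v (P.e j) * polar Q (P.f j) (P.e l) by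
      induction univ.erase i using Finset.induction_on with
      | empty => simp
      | insert j s hj ihs => rw [sum_insert hj, sum_insert hj, polar_add_left', ihs, polar_smul_left']]
    simp [P.fe, hl]
  have hzf : ∀ l, l ≠ i → polar Q z (P.f l) = 0 := fun l hl => y.at_polar hzm (hlow' l hl)
  have hrz : P.rest z = 0 := hrest _ (P.rest_e z) (P.rest_f z)
  have hdec : z = polar Q z (P.f i) • P.e i + polar Q z (P.e i) • P.f i := by
    conv_lhs => rw [P.decomp z, hrz, add_zero]
    rw [sum_eq_single i (fun l _ hl => by rw [hzf l hl, zero_smul]) (fun h => absurd (mem_univ i) h),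
      sum_eq_single i (fun l _ hl => by rw [hze l hl, zero_smul]) (fun h => absurd (mem_univ i) h)]
  have hqz : polar Q z (P.f i) * polar Q z (P.e i) = 0 := by
    have h := y.at_sing hzm
    rw [hdec, apply_add, apply_smul, apply_smul, P.qe, P.qf, polar_smul_left', polar_smul_right', P.ef, if_pos rfl] at h
    linear_combination h
  have hne : ¬ (i.val + 1 < m) := by omega
  rcases mul_eq_zero.1 hqz with h0 | h0
  · left
    refine P.eq_flag fun l => ?_
    show P.f l ∈ _
    by_cases hl : l = i
    · subst hl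
      rw [h0, zero_smul, zero_add] at hdec
      have hc : polar Q z (P.e l) ≠ 0 := fun e => hz0 (by rw [hdec, e, zero_smul])
      rw [hi]
      exact (Submodule.smul_mem_iff _ hc).1 (hdec ▸ hzm)
    · exact hlow l hl
  · right
    refine P.eq_flag fun l => ?_
    by_cases hl : l = i
    · subst hl
      rw [show P.vec (Frame.coord (toggle l (Frame.top m)) l) = P.e l by
        simp [Frame.coord, toggle, hne, Frame.top, Frame.vec]]
      rw [h0, zero_smul, add_zero] at hdec
      have hc : polar Q z (P.f l) ≠ 0 := fun e => hz0 (by rw [hdec, e, zero_smul])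
      rw [hi]
      exact (Submodule.smul_mem_iff _ hc).1 (hdec ▸ hzm)
    · rw [show P.vec (Frame.coord (toggle i (Frame.top m)) l) = P.f l by
        simp [Frame.coord, toggle, hne, Frame.top, Frame.vec, Function.update_of_ne hl]]
      exact hlow l hl

end Reflections

variable {F : Type*} [Field F] [Fintype F] {ι : Type} [Fintype ι] [DecidableEq ι]
  {Q : QuadraticForm F (ι → F)} {m : ℕ}

/-- The Steinberg character of `PΩ`. -/
theorem exists_steinberg (hQ : (polarBilin Q).Nondegenerate) (hn : 5 ≤ Fintype.card ι) (P : Frame Q m) (hm : 1 ≤ m)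
    (hrest : (∃ w, (∀ i, polar Q w (P.e i) = 0) ∧ (∀ i, polar Q w (P.f i) = 0) ∧ Q w = -1) ∨
      ∀ w, (∀ i, polar Q w (P.e i) = 0) → (∀ i, polar Q w (P.f i) = 0) → w = 0)
    (p : ℕ) [Fact p.Prime] [CharP F p] {q : ℕ} (hq : Fintype.card F = q)
    (hsyl : ∀ k, p ^ k ∣ Nat.card (commutator (OQ Q)) →
      p ^ k ≤ q ^ (∑ k : Fin m, (Fintype.card ι - 2 * (k.val + 1)))) :
    ∃ χ : Cfsg.POmega F (⇑Q) → ℂ, Cfsg.IsIrrCharacter (Cfsg.POmega F (⇑Q)) χ ∧
      ∀ S : Sylow p (Cfsg.POmega F (⇑Q)), χ 1 = Nat.card S ∧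
        ∀ x : Cfsg.POmega F (⇑Q), x ∈ S → x ≠ 1 → χ x = 0 := by
  haveI : Nontrivial (ι → F) := by
    haveI : Nonempty ι := Fintype.card_pos_iff.1 (by omega)
    infer_instance
  have hn' : 5 ≤ Module.finrank F (ι → F) := by rw [Module.finrank_pi]; exact hn
  haveI : Finite ((ι → F) ≃ₗ[F] (ι → F)) := Finite.of_injective (fun g => (⇑g : (ι → F) → (ι → F))) DFunLike.coe_injective
  let e := pOmegaEquiv Q
  let π : commutator (OQ Q) →* Cfsg.POmega F (⇑Q) := e.symm.toMonoidHom.comp (QuotientGroup.mk' _)
  have hπ : Function.Surjective π := e.symm.surjective.comp (QuotientGroup.mk'_surjective _)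
  have hcen : Subgroup.center (commutator (OQ Q)) ≤
      ((MulAction.toPermHom (OQ Q) (Chamber Q m)).comp (commutator (OQ Q)).subtype).ker := by
    intro z hz
    obtain ⟨c, hcc, hc⟩ := (center_Omega_iff hQ hn').1 hz
    rw [MonoidHom.mem_ker]
    refine Equiv.ext fun x => Chamber.ext' fun i _ => ?_
    show (x.at' i).map (((z : OQ Q) : (ι → F) ≃ₗ[F] (ι → F)) : (ι → F) →ₗ[F] (ι → F)) = x.at' i
    refine Submodule.eq_of_le_of_finrank_eq ?_ (LinearEquiv.finrank_map_eq _ _)
    rintro _ ⟨v, hv, rfl⟩
    show ((z : OQ Q) : (ι → F) ≃ₗ[F] (ι → F)) v ∈ _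
    rw [hc]
    exact Submodule.smul_mem _ _ hv
  letI : MulAction (Cfsg.POmega F (⇑Q)) (Chamber Q m) :=
    MulAction.compHom _ ((QuotientGroup.lift _ _ hcen).comp e.toMonoidHom)
  have hsmul : ∀ (g : commutator (OQ Q)) (x : Chamber Q m), π g • x = (g : OQ Q) • x := fun g x => by
    show (QuotientGroup.lift _ _ hcen) (e (e.symm (QuotientGroup.mk g))) x = _
    rw [e.apply_symm_apply]
    rfl
  haveI : Fintype (Chamber Q m) := Fintype.ofFinite _
  have hUc := P.U_le_commutator hQ hn'
  let U₀ : Subgroup (commutator (OQ Q)) := (P.U hQ).subgroupOf (commutator (OQ Q))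
  let c₀ := P.flag (Frame.bot m)
  let a₀ : Apt m := Frame.top m
  let D : CfsgLib.StModule.Data (Cfsg.POmega F (⇑Q)) (Chamber Q m) :=
    { I := Fin m
      same := Chamber.same
      same_smul := by
        intro i g x y h l hl hne
        obtain ⟨g, rfl⟩ := hπ g
        rw [hsmul, hsmul, Chamber.at_smul, Chamber.at_smul, h l hl hne]
      c := c₀
      U := U₀.map π
      fix := by
        rintro _ ⟨u, hu, rfl⟩
        rw [hsmul]
        refine Chamber.ext' fun i hi => ?_
        rw [Chamber.at_smul, P.flag_bot_at hi]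
        exact Submodule.eq_of_le_of_finrank_eq ((P.isUnip_of_mem hQ hu).map_S P i) (LinearEquiv.finrank_map_eq _ _)
      A := Apt m
      apt := P.flag
      eps := fun a => (sgn a : ℂ)
      a0 := a₀
      eps0 := by simp [a₀, sgn, Frame.top]
      panel := by
        intro i x _
        by_cases hx : ∃ a, Chamber.same i x (P.flag a)
        · obtain ⟨a, ha⟩ := hx
          refine (sum_congr (s₂ := {a, toggle i a}) ?_ fun _ _ => rfl).trans ?_
          · ext b
            simp only [mem_filter, mem_univ, true_and, mem_insert, mem_singleton]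
            constructor
            · exact fun hb => Frame.eq_or_toggle fun l hl hne => (ha l hl hne).symm.trans (hb l hl hne)
            · rintro (rfl | rfl)
              · exact ha
              · exact fun l hl hne => (ha l hl hne).trans (Frame.same_toggle P i a l hl hne)
          · rw [sum_pair (toggle_ne i a).symm, sgn_toggle]
            push_cast
            ring
        · push Not at hx
          rw [filter_false_of_mem fun a _ => hx a, sum_empty]
      reach := by
        intro f _ hdec hsum hvan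
        obtain ⟨g, hg, heven, hodd⟩ := P.exists_swap hQ hn' m le_rfl
        rcases Nat.even_or_odd m with hev | hod
        · have e1 : π ⟨g, heven hev⟩ • c₀ = P.flag a₀ := by
            rw [hsmul]
            refine P.eq_flag fun l => ⟨P.e l, ?_, by rw [LinearEquiv.coe_coe, hg, if_pos l.isLt]; rfl⟩
            show P.e l ∈ c₀.at' (l.val + 1)
            rw [P.flag_bot_at l.isLt]
            exact P.e_mem_S (Nat.lt_succ_self _)
          exact e1 ▸ hvan _
        · rcases hrest with ⟨w, hwe, hwf, hw⟩ | hfull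
          · have hw0 : Q w ≠ 0 := by rw [hw]; simp
            have e1 : π ⟨_, hodd hod w hw0 hw⟩ • c₀ = P.flag a₀ := by
              rw [hsmul]
              refine P.eq_flag fun l => ⟨P.e l, ?_, ?_⟩
              · show P.e l ∈ c₀.at' (l.val + 1)
                rw [P.flag_bot_at l.isLt]
                exact P.e_mem_S (Nat.lt_succ_self _)
              · show ((refl hw0 : OQ Q) : (ι → F) ≃ₗ[F] (ι → F)) ((g : (ι → F) ≃ₗ[F] (ι → F)) (P.e l)) = P.f l
                rw [hg, if_pos l.isLt, refl_apply, QuadraticMap.polar_comm (⇑Q) (P.f l), hwf]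
                simp
            exact e1 ▸ hvan _
          · let i : Fin m := ⟨m - 1, by omega⟩
            have hi : i.val + 1 = m := by show m - 1 + 1 = m; omega
            have hne : ¬ (i.val + 1 < m) := by omega
            have e1 : π ⟨_, hodd hod _ (P.q_sub_ne i) (P.q_sub i)⟩ • c₀ = P.flag (toggle i a₀) := by
              rw [hsmul]
              refine P.eq_flag fun l => ⟨P.e l, ?_, ?_⟩
              · show P.e l ∈ c₀.at' (l.val + 1)
                rw [P.flag_bot_at l.isLt]
                exact P.e_mem_S (Nat.lt_succ_self _)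
              · show ((refl (P.q_sub_ne i) : OQ Q) : (ι → F) ≃ₗ[F] (ι → F)) ((g : (ι → F) ≃ₗ[F] (ι → F)) (P.e l)) = _
                rw [hg, if_pos l.isLt, P.refl_f]
                by_cases hl : l = i
                · subst hl
                  rw [if_pos rfl]
                  simp [Frame.coord, toggle, hne, a₀, Frame.top, Frame.vec]
                · rw [if_neg hl]
                  simp [Frame.coord, toggle, hne, a₀, Frame.top, Frame.vec, Function.update_of_ne hl]
            have hz : f (P.flag (toggle i a₀)) = 0 := e1 ▸ hvan _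
            have hs := hsum i (P.flag a₀)
            have hdiff : P.flag a₀ ≠ P.flag (toggle i a₀) := fun e => by
              have h := (Frame.opp_top P)
              rw [show P.flag (Frame.top m) = P.flag (toggle i a₀) from e] at h
              exact toggle_ne i a₀ (Frame.eq_top_of_opp P h)
            rw [sum_eq_add_of_mem (P.flag a₀) (P.flag (toggle i a₀)) (mem_filter.2 ⟨mem_univ _, fun _ _ _ => rfl⟩)
              (mem_filter.2 ⟨mem_univ _, Frame.same_toggle P i a₀⟩) hdiff (fun y hy hy' => by
                rcases P.last_panel hfull i hi (mem_filter.1 hy).2 with h | h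
                · exact absurd h hy'.1
                · exact absurd h hy'.2), hz, add_zero] at hs
            exact hs
      apt_big := by
        rintro a _ ⟨u, hu, rfl⟩ h
        rw [hsmul] at h
        exact Frame.eq_top_of_opp P (h ▸ (Frame.opp_top P).smul (P.isUnip_of_mem hQ hu))
      free := by
        rintro _ ⟨u, hu, rfl⟩ h
        rw [hsmul] at h
        have h1 : (u : OQ Q) = 1 := by
          refine (P.isUnip_of_mem hQ hu).eq_one P fun k => ?_
          have hk : ((u : OQ Q) : (ι → F) ≃ₗ[F] (ι → F)) (P.f k) ∈ (P.flag a₀).at' (k.val + 1) := by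
            rw [← h, Chamber.at_smul]
            refine ⟨P.f k, ?_, rfl⟩
            rw [P.flag_at _ k.isLt]
            exact Submodule.subset_span ⟨_, ⟨k, Nat.lt_succ_self _, rfl⟩, rfl⟩
          rw [P.flag_at _ k.isLt] at hk
          refine Submodule.span_mono ?_ hk
          rintro _ ⟨_, ⟨l, hl, rfl⟩, rfl⟩
          exact ⟨l, Fin.le_def.2 (Nat.lt_succ_iff.1 hl), rfl⟩
        rw [show u = 1 from Subtype.ext h1, map_one]
      rk := fun x => x.height P
      up := by
        intro x hx
        obtain ⟨i, hi⟩ : ∃ i, x.Asc P hm i := by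
          by_contra hno
          push Not at hno
          obtain ⟨u, hu, hul⟩ := x.exists_translate P hQ (x.opp_of_no_asc P hm hno)
          refine hx (π ⟨u, hUc hu⟩) ⟨⟨u, hUc hu⟩, hu, rfl⟩ ?_
          rw [hsmul]
          have e1 : u⁻¹ • x = P.flag a₀ := P.eq_flag fun l =>
            ⟨_, hul l, (u : (ι → F) ≃ₗ[F] (ι → F)).symm_apply_apply _⟩
          show x = u • P.flag a₀
          rw [← e1, smul_inv_smul]
        exact ⟨i, fun _ _ _ => rfl, fun y hy hne => x.height_lt P hm i hQ hi hy hne⟩ }
  have hU₀ : IsPGroup p U₀ :=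
    (P.isPGroup_U hQ p).comap_of_injective (commutator (OQ Q)).subtype Subtype.val_injective
  refine CfsgLib.StModule.exists_character_sylow D p (hU₀.map π) ?_
  intro hdvd
  have hdvd' : p ∣ U₀.index := hdvd.trans (Subgroup.index_map_dvd _ hπ)
  obtain ⟨a, ha⟩ := IsPGroup.iff_card.1 hU₀
  have hle := P.le_card_U hQ hq
  rw [← Nat.card_congr (Subgroup.subgroupOfEquivOfLe hUc).toEquiv, ha, Module.finrank_pi] at hle
  have h1 : p ^ (a + 1) ∣ Nat.card (commutator (OQ Q)) := by
    rw [← U₀.card_mul_index, ha, pow_succ]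
    exact mul_dvd_mul_left _ hdvd'
  have h2 := hsyl (a + 1) h1
  have h3 : p ^ a < p ^ (a + 1) := Nat.pow_lt_pow_right (Fact.out : p.Prime).one_lt (Nat.lt_succ_self a)
  omega

end CfsgLib.OrthFlags
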