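import Cfsg.Agent.Lib.Char.Exceptional.Orth.Standard
import Cfsg.Agent.Lib.Classical.SmallIso
import Cfsg.Agent.Lib.Classical.RingTransfer
import Cfsg.Agent.S2566

/-!
# The degenerate plus-type group of dimension four over the field of two elements
-/

set_option autoImplicit false

namespace CfsgLib.OrthFlags

open scoped commutatorElement

/-- The predicate passes back along a surjection with kernel of order prime to `p`. -/
theorem HasSteinberg.of_surjective {G H : Type*} [Group G] [Group H] [Finite G] (p : ℕ) [Fact p.Prime]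
    (f : G →* H) (hf : Function.Surjective f) (hk : ¬ p ∣ Nat.card f.ker) (h : HasSteinberg H p) :
    HasSteinberg G p := by
  haveI : Finite H := Finite.of_surjective f hf
  obtain ⟨χ, hχ, hS⟩ := h
  refine ⟨fun x => χ (f x), CfsgLib.Char.IsIrr.comp_surjective f hf hχ, fun S => ?_⟩
  obtain ⟨h1, h0⟩ := hS (S.mapSurjective hf)
  have hinj : ∀ x ∈ (S : Subgroup G), f x = 1 → x = 1 := by
    intro x hx hfx
    obtain ⟨k, hk'⟩ := S.2 ⟨x, hx⟩
    have hpow : x ^ p ^ k = 1 := congrArg Subtype.val hk'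
    have hd1 : orderOf x ∣ p ^ k := orderOf_dvd_of_pow_eq_one hpow
    have hd2 : orderOf x ∣ Nat.card f.ker := Subgroup.orderOf_dvd_natCard f.ker hfx
    have hc : Nat.Coprime (p ^ k) (Nat.card f.ker) :=
      Nat.Coprime.pow_left k (((Fact.out : p.Prime).coprime_iff_not_dvd).2 hk)
    exact orderOf_eq_one_iff.1 (Nat.eq_one_of_dvd_coprimes hc hd1 hd2)
  have hinj' : Function.Injective (f.comp (S : Subgroup G).subtype) := by
    rw [injective_iff_map_eq_one]
    exact fun x hx => Subtype.ext (hinj x.1 x.2 hx)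
  refine ⟨?_, fun x hx hne => h0 (f x) (Subgroup.mem_map_of_mem f hx) fun h => hne (hinj x hx h)⟩
  show χ (f 1) = _
  rw [map_one, h1]
  congr 1
  show Nat.card ((S : Subgroup G).map f : Subgroup H) = Nat.card S
  rw [Nat.card_congr (MonoidHom.ofInjective hinj').toEquiv, MonoidHom.range_comp, Subgroup.range_subtype]

/-- The symmetric group of degree three. -/
theorem perm_three : HasSteinberg (Equiv.Perm (Fin 3)) 2 := by
  obtain ⟨f, hf⟩ := CfsgLib.Classical.Two.exists_injective_perm (F := ZMod 2) (k := 3) (by simp)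
  have hcard := CfsgLib.Classical.Two.card_PSL_two (F := ZMod 2)
  simp only [ZMod.card] at hcard
  norm_num at hcard
  have hbij : Function.Bijective f := by
    rw [Nat.bijective_iff_injective_and_card]
    exact ⟨hf, by rw [Nat.card_eq_fintype_card, hcard, Nat.card_perm, Nat.card_fin]; rfl⟩
  exact HasSteinberg.of_equiv 2 (MulEquiv.ofBijective f hbij).symm (CfsgLib.PSLSteinberg.exists_steinberg 2)

/-- A wreath product of the symmetric group of degree three by a group of order two. -/
theorem wreath_omega {O : Type*} [Group O] [Finite O]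
    (κ : Equiv.Perm (Fin 3) × Equiv.Perm (Fin 3) →* O) (hκ : Function.Injective κ) (t : O) (ht : t * t = 1)
    (hconj : ∀ a, t * κ (a, 1) * t = κ (1, a)) (hO : Nat.card O = 72) (htn : t ∉ κ.range) :
    HasSteinberg (commutator O ⧸ Subgroup.center (commutator O)) 2 := by
  have htinv : t⁻¹ = t := inv_eq_of_mul_eq_one_left ht
  have hconj' : ∀ a, t * κ (1, a) * t = κ (a, 1) := fun a => by
    rw [← hconj a, ← mul_assoc, ← mul_assoc, ht, one_mul, mul_assoc, ht, mul_one]
  let ψ : Equiv.Perm (Fin 3) × Equiv.Perm (Fin 3) →* ℤˣ :=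
    Equiv.Perm.sign.comp (MonoidHom.fst _ _) * Equiv.Perm.sign.comp (MonoidHom.snd _ _)
  have hψ : ∀ a b, ψ (a, b) = Equiv.Perm.sign a * Equiv.Perm.sign b := fun a b => rfl
  let K : Subgroup O := ψ.ker.map κ
  have hswap : ∀ a b, t * κ (a, b) * t = κ (b, a) := by
    intro a b
    rw [show (a, b) = ((a, 1) : Equiv.Perm (Fin 3) × Equiv.Perm (Fin 3)) * (1, b) by simp,
      show (b, a) = ((1, a) : Equiv.Perm (Fin 3) × Equiv.Perm (Fin 3)) * (b, 1) by simp,
      map_mul, map_mul, ← hconj a, ← hconj' b]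
    calc t * (κ (a, 1) * κ (1, b)) * t = t * κ (a, 1) * (1 * κ (1, b)) * t := by group
      _ = t * κ (a, 1) * ((t * t) * κ (1, b)) * t := by rw [ht]
      _ = _ := by simp only [mul_assoc]
  have h36 : Nat.card κ.range = 36 := by
    rw [Nat.card_congr (MonoidHom.ofInjective hκ).toEquiv.symm, Nat.card_prod, Nat.card_perm, Nat.card_fin]
    rfl
  have hidx : κ.range.index = 2 := by
    have := κ.range.card_mul_index
    rw [h36, hO] at this
    omega
  have hgen : ∀ g : O, g ∈ κ.range ∨ g * t ∈ κ.range := by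
    intro g
    by_cases hg : g ∈ κ.range
    · exact Or.inl hg
    · exact Or.inr ((Subgroup.mul_mem_iff_of_index_two hidx).2 (iff_of_false hg htn))
  have hKn : K.Normal := by
    constructor
    have h1 : ∀ h ∈ κ.range, ∀ n ∈ K, h * n * h⁻¹ ∈ K := by
      rintro _ ⟨h, rfl⟩ _ ⟨n, hn, rfl⟩
      exact ⟨h * n * h⁻¹, ψ.normal_ker.conj_mem n hn h, by simp⟩
    have h2 : ∀ n ∈ K, t * n * t⁻¹ ∈ K := by
      rintro _ ⟨⟨a, b⟩, hn, rfl⟩
      refine ⟨(b, a), ?_, by rw [htinv, hswap]⟩
      change ψ (a, b) = 1 at hn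
      show ψ (b, a) = 1
      rwa [hψ, mul_comm, ← hψ]
    intro n hn g
    rcases hgen g with hg | hg
    · exact h1 g hg n hn
    · have hc := h1 _ hg _ (h2 n hn)
      have he : g * t * (t * n * t⁻¹) * (g * t)⁻¹ = g * (t * t) * n * (t * t)⁻¹ * g⁻¹ := by group
      rw [he, ht] at hc
      simpa using hc
  have hKc : Nat.card K = 18 := by
    have hsurj : Function.Surjective ψ := by
      intro u
      obtain ⟨a, ha⟩ := Equiv.Perm.sign_surjective (Fin 3) u
      exact ⟨(a, 1), by rw [hψ, ha, map_one, mul_one]⟩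
    have h := ψ.ker.card_mul_index
    rw [Subgroup.index_ker, MonoidHom.range_eq_top.2 hsurj, Subgroup.card_top,
      show Nat.card ℤˣ = 2 by simp [Nat.card_eq_fintype_card], Nat.card_prod, Nat.card_perm, Nat.card_fin] at h
    rw [show Nat.card K = Nat.card ψ.ker from (Nat.card_congr (ψ.ker.equivMapOfInjective κ hκ).toEquiv).symm]
    change _ = 6 * 6 at h
    omega
  have hle : commutator O ≤ K := by
    have hq : Nat.card (O ⧸ K) = 2 ^ 2 := by
      have := K.card_mul_index
      rw [hKc, hO, Subgroup.index_eq_card] at this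
      omega
    haveI : Fact (Nat.Prime 2) := ⟨Nat.prime_two⟩
    have hcomm := IsPGroup.commutative_of_card_eq_prime_sq hq
    rw [commutator_def, Subgroup.commutator_le]
    intro a _ b _
    rw [← QuotientGroup.eq_one_iff, ← QuotientGroup.mk'_apply, map_commutatorElement,
      commutatorElement_eq_one_iff_mul_comm]
    exact hcomm _ _
  have hler : commutator O ≤ κ.range := hle.trans (Subgroup.map_le_range _ _)
  let f : commutator O →* Equiv.Perm (Fin 3) :=
    (MonoidHom.fst _ _).comp ((MonoidHom.ofInjective hκ).symm.toMonoidHom.comp (Subgroup.inclusion hler))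
  have hpre : ∀ (x : commutator O) (y), κ y = (x : O) → f x = y.1 := by
    intro x y hy
    show ((MonoidHom.ofInjective hκ).symm (Subgroup.inclusion hler x)).1 = y.1
    congr 1
    rw [MulEquiv.symm_apply_eq]
    exact Subtype.ext hy.symm
  have hfs : Function.Surjective f := by
    intro a
    have hmem : ⁅κ (a, 1), t⁆ ∈ commutator O :=
      Subgroup.commutator_mem_commutator (Subgroup.mem_top _) (Subgroup.mem_top _)
    refine ⟨⟨_, hmem⟩, hpre _ (a, a⁻¹) ?_⟩
    show κ (a, a⁻¹) = ⁅κ (a, 1), t⁆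
    rw [commutatorElement_def, htinv, show κ (a, 1) * t * (κ (a, 1))⁻¹ * t = κ (a, 1) * (t * κ (a⁻¹, 1) * t) by
      rw [← map_inv, Prod.inv_mk, inv_one]; simp only [mul_assoc], hconj, ← map_mul]
    simp
  have hker : ∀ x ∈ f.ker, ∃ b, Equiv.Perm.sign b = 1 ∧ (x : O) = κ (1, b) := by
    intro x hx
    obtain ⟨⟨a, b⟩, hn, hab⟩ := hle x.2
    have ha : a = 1 := (hpre x (a, b) hab).symm.trans hx
    subst ha
    change ψ (1, b) = 1 at hn
    exact ⟨b, by simpa [hψ] using hn, hab.symm⟩
  have hk2 : ¬ 2 ∣ Nat.card f.ker := by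
    have hsub : (f.ker.map (commutator O).subtype) ≤ ((alternatingGroup (Fin 3)).map (κ.comp (MonoidHom.inr _ _))) := by
      rintro _ ⟨x, hx, rfl⟩
      obtain ⟨b, hb, hxb⟩ := hker x hx
      exact ⟨b, hb, hxb.symm⟩
    have hd := Subgroup.card_dvd_of_le hsub
    rw [Subgroup.card_map_of_injective (commutator O).subtype_injective] at hd
    intro h2
    have h3 := (h2.trans hd).trans (Subgroup.card_map_dvd _ _)
    rw [nat_card_alternatingGroup, Nat.card_fin] at h3
    revert h3
    decide
  have hc : ∀ z : Equiv.Perm (Fin 3), (∀ g, g * z = z * g) → z = 1 := by decide +kernel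
  have hcen : Subgroup.center (commutator O) ≤ f.ker := by
    intro z hz
    refine hc (f z) fun g => ?_
    obtain ⟨y, rfl⟩ := hfs g
    rw [← map_mul, ← map_mul, Subgroup.mem_center_iff.1 hz y]
  refine HasSteinberg.of_surjective 2 (QuotientGroup.lift _ f hcen)
    (fun a => (hfs a).elim fun x hx => ⟨x, hx⟩) (fun h2 => hk2 (h2.trans ?_)) perm_three
  rw [QuotientGroup.ker_lift]
  exact Subgroup.card_map_dvd _ _

theorem plus_two_two_zmod : HasSteinberg (Cfsg.POmega (ZMod 2) (Cfsg.quadFormPlus 2 (ZMod 2))) 2 := by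
  refine wreath_omega Cfsg.Agent.S2566.KO Cfsg.Agent.S2566.KO_inj Cfsg.Agent.S2566.TO ?_ ?_
    Cfsg.Agent.S2566.result.1 ?_
  · exact Subtype.ext (Units.ext Cfsg.Agent.S2566.TM_mul)
  · exact fun a => Subtype.ext (Units.ext (Cfsg.Agent.S2566.TM_conj a))
  · rintro ⟨x, hx⟩
    exact Cfsg.Agent.S2566.TM_ne x.1 x.2
      (congrArg (fun z : Cfsg.Agent.S2566.O4 =>
        ((z : Matrix.GeneralLinearGroup Cfsg.Agent.S2566.I4 (ZMod 2)) :
          Matrix Cfsg.Agent.S2566.I4 Cfsg.Agent.S2566.I4 (ZMod 2))) hx)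

/-- Isomorphic ambient groups have isomorphic central quotients of commutator subgroups. -/
theorem HasSteinberg.commutator_congr {O O' : Type*} [Group O] [Group O'] (p : ℕ) (e : O ≃* O')
    (h : HasSteinberg (commutator O' ⧸ Subgroup.center (commutator O')) p) :
    HasSteinberg (commutator O ⧸ Subgroup.center (commutator O)) p := by
  have hmap : (commutator O).map e.toMonoidHom = commutator O' := by
    rw [commutator_def, commutator_def, Subgroup.map_commutator, Subgroup.map_top_of_surjective _ e.surjective]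
  let e1 : commutator O ≃* commutator O' :=
    (e.subgroupMap (commutator O)).trans (MulEquiv.subgroupCongr hmap)
  refine h.of_equiv (e := QuotientGroup.congr _ _ e1 ?_)
  refine SetLike.ext fun x => ⟨?_, fun hx => ?_⟩
  · rintro ⟨z, hz, rfl⟩
    rw [Subgroup.mem_center_iff]
    intro g
    obtain ⟨g, rfl⟩ := e1.surjective g
    show e1 g * e1 z = e1 z * e1 g
    rw [← map_mul, ← map_mul, Subgroup.mem_center_iff.1 hz g]
  · refine ⟨e1.symm x, ?_, e1.apply_symm_apply x⟩
    rw [SetLike.mem_coe, Subgroup.mem_center_iff]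
    intro g
    apply e1.injective
    rw [map_mul, map_mul, e1.apply_symm_apply]
    exact Subgroup.mem_center_iff.1 hx _

theorem plus_two_two {F : Type*} [Field F] [Fintype F] (h2 : Fintype.card F = 2) (p : ℕ) [Fact p.Prime]
    [CharP F p] : HasSteinberg (Cfsg.POmega F (Cfsg.quadFormPlus 2 F)) p := by
  haveI : Fact (Nat.Prime 2) := ⟨Nat.prime_two⟩
  obtain ⟨e⟩ := CfsgLib.Classical.exists_zmod_equiv F h2
  obtain rfl : p = 2 := by
    exact CharP.eq F ‹CharP F p› (charP_of_injective_ringHom e.toRingHom.injective 2)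
  refine HasSteinberg.commutator_congr 2
    (CfsgLib.Classical.isometryGroupMap e.symm (Q' := Cfsg.quadFormPlus 2 (ZMod 2)) fun v => ?_) plus_two_two_zmod
  simp [Cfsg.quadFormPlus]

end CfsgLib.OrthFlags
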