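import Cfsg.Agent.Lib.Char.Exceptional.Orth.Main
import Cfsg.Agent.Lib.Classical.SmallOrtho.Two
import Cfsg.Agent.Lib.Classical.SmallOrtho.MinusFour
import Cfsg.Agent.Lib.Classical.SylowGL
import Cfsg.Agent.Lib.Char.Exceptional.PSLChambers
import Cfsg.Agent.Lib.Char.Complete

/-!
# The Steinberg character of the standard orthogonal groups
-/

set_option autoImplicit false

namespace CfsgLib.OrthFlags

open QuadraticMap (polar polarBilin)
open CfsgLib.Classical.Quad Finset
open scoped ComplexConjugate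

section Transport

variable {G H : Type*} [Group G] [Group H] (p : ℕ) [Fact p.Prime]

/-- The predicate of the statements. -/
def HasSteinberg (G : Type*) [Group G] (p : ℕ) : Prop :=
  ∃ χ : G → ℂ, Cfsg.IsIrrCharacter G χ ∧ ∀ S : Sylow p G, χ 1 = Nat.card S ∧ ∀ x : G, x ∈ S → x ≠ 1 → χ x = 0

omit [Fact p.Prime] in
theorem HasSteinberg.of_equiv (e : G ≃* H) (h : HasSteinberg H p) : HasSteinberg G p := by
  obtain ⟨χ, hχ, hS⟩ := h
  refine ⟨fun x => χ (e x), CfsgLib.Char.IsIrr.comp_surjective e.toMonoidHom e.surjective hχ, fun S => ?_⟩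
  obtain ⟨h1, h0⟩ := hS (S.comapOfInjective e.symm.toMonoidHom e.symm.injective (fun x _ => ⟨e x, by simp⟩))
  refine ⟨?_, fun x hx hne => h0 (e x) ?_ (by simpa using hne)⟩
  · show χ (e 1) = _
    rw [map_one, h1]
    congr 1
    refine Nat.card_congr ⟨fun y => ⟨e.symm y.1, y.2⟩, fun x => ⟨e x.1, ?_⟩, fun y => ?_, fun x => ?_⟩
    · show e.symm (e x.1) ∈ S
      rw [e.symm_apply_apply]; exact x.2
    · exact Subtype.ext (e.apply_symm_apply _)
    · exact Subtype.ext (e.symm_apply_apply _)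
  · show e.symm (e x) ∈ S
    rwa [e.symm_apply_apply]

theorem HasSteinberg.of_not_dvd [Finite G] (h : ¬ p ∣ Nat.card G) : HasSteinberg G p := by
  refine ⟨fun _ => 1, CfsgLib.Char.isIrrCharacter_one, fun S => ?_⟩
  have hS : Nat.card S = 1 := by
    obtain ⟨k, hk⟩ := IsPGroup.iff_card.1 S.2
    rcases k with _ | k
    · simpa using hk
    · exact absurd ((dvd_pow_self p k.succ_ne_zero).trans (hk ▸ Subgroup.card_subgroup_dvd_card (S : Subgroup G))) h
  refine ⟨by rw [hS, Nat.cast_one], fun x hx hne => absurd ?_ hne⟩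
  have hbot := (Subgroup.card_eq_one.1 hS : (S : Subgroup G) = ⊥)
  exact (Subgroup.mem_bot).1 (hbot ▸ hx)

theorem HasSteinberg.prod [Finite G] [Finite H] (hG : HasSteinberg G p) (hH : HasSteinberg H p) :
    HasSteinberg (G × H) p := by
  haveI := Fintype.ofFinite G
  haveI := Fintype.ofFinite H
  obtain ⟨χ, hχ, hS⟩ := hG
  obtain ⟨ψ, hψ, hT⟩ := hH
  obtain ⟨hχc, hχn⟩ := CfsgLib.Char.isIrr_iff_classInner_eq_one.1 hχ
  obtain ⟨hψc, hψn⟩ := CfsgLib.Char.isIrr_iff_classInner_eq_one.1 hψ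
  refine ⟨(fun x : G × H => χ x.1) * fun x => ψ x.2, CfsgLib.Char.isIrr_iff_classInner_eq_one.2 ⟨
    CfsgLib.Char.IsChar.mul (CfsgLib.Char.IsChar.comp (MonoidHom.fst G H) hχc)
      (CfsgLib.Char.IsChar.comp (MonoidHom.snd G H) hψc), ?_⟩, fun S => ?_⟩
  · simp only [Cfsg.classInner, Pi.mul_apply, map_mul] at hχn hψn ⊢
    rw [Nat.card_prod, Nat.cast_mul, mul_inv, Fintype.sum_prod_type]
    calc _ = ((Nat.card G : ℂ)⁻¹ * ∑ x, χ x * conj (χ x)) * ((Nat.card H : ℂ)⁻¹ * ∑ y, ψ y * conj (ψ y)) := by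
          rw [mul_mul_mul_comm, sum_mul_sum]
          congr 1
          exact sum_congr rfl fun x _ => sum_congr rfl fun y _ => by ring
      _ = 1 := by rw [hχn, hψn, one_mul]
  · let A : Sylow p G := default
    let B : Sylow p H := default
    have hAB : Nat.card S = Nat.card A * Nat.card B := by
      rw [Sylow.card_eq_multiplicity, Sylow.card_eq_multiplicity, Sylow.card_eq_multiplicity, ← pow_add,
        Nat.card_prod, Nat.factorization_mul Nat.card_pos.ne' Nat.card_pos.ne', Finsupp.add_apply]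
    refine ⟨?_, fun x hx hne => ?_⟩
    · show χ 1 * ψ 1 = _
      rw [(hS A).1, (hT B).1, hAB, Nat.cast_mul]
    · obtain ⟨A', hA'⟩ := (S.2.map (MonoidHom.fst G H)).exists_le_sylow
      obtain ⟨B', hB'⟩ := (S.2.map (MonoidHom.snd G H)).exists_le_sylow
      by_cases h1 : x.1 = 1
      · have h2 : x.2 ≠ 1 := fun h2 => hne (Prod.ext h1 h2)
        show χ x.1 * ψ x.2 = 0
        rw [(hT B').2 x.2 (hB' ⟨x, hx, rfl⟩) h2, mul_zero]
      · show χ x.1 * ψ x.2 = 0
        rw [(hS A').2 x.1 (hA' ⟨x, hx, rfl⟩) h1, zero_mul]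

end Transport

variable {F : Type*} [Field F]

theorem single_sum_pair {m : ℕ} (i j : Fin m) :
    polar (qPlus m F) (Pi.single (Sum.inl i) 1) (Pi.single (Sum.inr j) 1) = if i = j then 1 else 0 := by
  rw [polar_qPlus]
  simp [Pi.single_apply, eq_comm]

/-- The frame of the hyperbolic form. -/
def plusFrame (m : ℕ) (F : Type*) [Field F] : Frame (qPlus m F) m where
  e i := Pi.single (Sum.inl i) 1
  f i := Pi.single (Sum.inr i) 1
  qe i := by simp [coe_qPlus, Cfsg.quadFormPlus, Pi.single_apply]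
  qf i := by simp [coe_qPlus, Cfsg.quadFormPlus, Pi.single_apply]
  ef := single_sum_pair
  ee i j := by simp [polar_qPlus, Pi.single_apply]
  ff i j := by simp [polar_qPlus, Pi.single_apply]
  aniso w he hf _ := funext fun x => by
    rcases x with i | i
    · simpa [polar_qPlus, Pi.single_apply] using hf i
    · simpa [polar_qPlus, Pi.single_apply] using he i

/-- The frame of the elliptic form. -/
def minusFrame (m : ℕ) (F : Type*) [Field F] (a b : F)
    (hab : ∀ z₁ z₂ : F, z₁ ^ 2 + a * z₁ * z₂ + b * z₂ ^ 2 = 0 → z₁ = 0 ∧ z₂ = 0) : Frame (qMinus m F a b) m where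
  e i := Pi.single (Sum.inl (Sum.inl i)) 1
  f i := Pi.single (Sum.inl (Sum.inr i)) 1
  qe i := by simp [coe_qMinus, Cfsg.quadFormMinus, Pi.single_apply]
  qf i := by simp [coe_qMinus, Cfsg.quadFormMinus, Pi.single_apply]
  ef i j := by simp [polar_qMinus, polar_qPlus, polar_qBin, Pi.single_apply, eq_comm]
  ee i j := by simp [polar_qMinus, polar_qPlus, polar_qBin, Pi.single_apply]
  ff i j := by simp [polar_qMinus, polar_qPlus, polar_qBin, Pi.single_apply]
  aniso w he hf hq := by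
    have h0 : ∀ x, w (Sum.inl x) = 0 := fun x => by
      rcases x with i | i
      · simpa [polar_qMinus, polar_qPlus, polar_qBin, Pi.single_apply] using hf i
      · simpa [polar_qMinus, polar_qPlus, polar_qBin, Pi.single_apply] using he i
    rw [coe_qMinus, Cfsg.quadFormMinus] at hq
    simp only [h0, mul_zero, sum_const_zero, zero_add] at hq
    obtain ⟨h1, h2⟩ := hab _ _ hq
    funext x
    rcases x with x | x
    · exact h0 x
    · fin_cases x
      · exact h1
      · exact h2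

theorem exponent_sum (m d : ℕ) : ∑ k : Fin m, (2 * m + d - 2 * (k.val + 1)) = m * (m - 1) + d * m := by
  induction m with
  | zero => simp
  | succ m ih =>
    rw [Fin.sum_univ_succ]
    have e : ∀ k : Fin m, 2 * (m + 1) + d - 2 * ((Fin.succ k).val + 1) = 2 * m + d - 2 * (k.val + 1) := fun k => by
      rw [Fin.val_succ]; omega
    rw [sum_congr rfl (fun k _ => e k), ih, Fin.val_zero]
    rcases m with _ | m
    · simp
    · simp only [Nat.add_sub_cancel]; ring_nf; omega

variable [Fintype F] {q : ℕ}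

theorem coprime_pow_pm (p : ℕ) [Fact p.Prime] [CharP F p] (hF : Fintype.card F = q) {k : ℕ} (hk : 1 ≤ k) :
    Nat.Coprime p (q ^ k - 1) ∧ Nat.Coprime p (q ^ k + 1) := by
  obtain ⟨e, he, hq⟩ := CfsgLib.Classical.exists_card_eq_prime_pow (F := F) p
  have hp : p.Prime := Fact.out
  have hd : p ∣ q ^ k := by
    rw [← hF, hq, ← pow_mul]
    exact dvd_pow_self p (Nat.mul_ne_zero (by omega) (by omega))
  have hpos : 1 ≤ q ^ k := Nat.one_le_pow _ _ (by rw [← hF]; exact Fintype.card_pos)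
  refine ⟨hp.coprime_iff_not_dvd.2 fun h => hp.one_lt.ne' (Nat.dvd_one.1 ?_),
    hp.coprime_iff_not_dvd.2 fun h => hp.one_lt.ne' (Nat.dvd_one.1 ?_)⟩
  · have := Nat.dvd_sub hd h
    rwa [show q ^ k - (q ^ k - 1) = 1 by omega] at this
  · have := Nat.dvd_sub h hd
    rwa [Nat.add_sub_cancel_left] at this

theorem pow_le_of_dvd {p N R k : ℕ} (hq : 1 ≤ q) (hR : Nat.Coprime p R) (h : p ^ k ∣ q ^ N * R) : p ^ k ≤ q ^ N :=
  Nat.le_of_dvd (Nat.pow_pos hq) ((Nat.Coprime.pow_left k hR).dvd_of_dvd_mul_right h)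

/-- The bound on `p`-powers dividing the order of `Ω`. -/
theorem sylow_bound {ι : Type} [Fintype ι] [DecidableEq ι] {Q : QuadraticForm F (ι → F)}
    (hQ : (polarBilin Q).Nondegenerate) (hn : 5 ≤ Fintype.card ι) (p : ℕ) [Fact p.Prime] [CharP F p]
    (hF : Fintype.card F = q) {N R : ℕ} (hO : Nat.card (OQ Q) = 2 * (q ^ N * R)) (hR : Nat.Coprime p R)
    {k : ℕ} (hk : p ^ k ∣ Nat.card (commutator (OQ Q))) : p ^ k ≤ q ^ N := by
  have hq : 1 ≤ q := by rw [← hF]; exact Fintype.card_pos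
  by_cases hp2 : p = 2
  · have h2 : (2 : F) = 0 := by
      have h := CharP.cast_eq_zero F p
      rw [hp2] at h
      exact_mod_cast h
    have hidx := index_Omega hQ (Or.inr (by omega : Fintype.card ι ≠ 4)) (by omega)
    rw [card_sqClass_of_two_eq_zero h2, mul_one] at hidx
    have hmul := (Cfsg.Omega F (⇑Q)).card_mul_index
    rw [hidx, Nat.card_congr (omegaEquiv Q).toEquiv, card_isometryGroup_eq Q rfl, hO] at hmul
    refine pow_le_of_dvd hq hR (hk.trans (dvd_of_eq ?_))
    omega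
  · refine pow_le_of_dvd hq hR ?_
    have hd := hk.trans (Subgroup.card_subgroup_dvd_card _)
    rw [hO] at hd
    exact (Nat.Coprime.pow_left k ((Nat.coprime_primes (Fact.out : p.Prime) Nat.prime_two).2 hp2)).dvd_of_dvd_mul_left hd

theorem plus_large (p : ℕ) [Fact p.Prime] [CharP F p] (m : ℕ) (hm : 3 ≤ m) :
    HasSteinberg (Cfsg.POmega F (Cfsg.quadFormPlus m F)) p := by
  obtain ⟨m, rfl⟩ : ∃ m', m = m' + 1 := ⟨m - 1, by omega⟩
  have hF : Fintype.card F = Fintype.card F := rfl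
  rw [← coe_qPlus]
  refine exists_steinberg (qPlus_nondeg _) (by simp; omega) (plusFrame (m + 1) F) (by omega)
    (Or.inr fun w he hf => (plusFrame (m + 1) F).aniso w he hf ?_) p hF fun k hk => ?_
  · have h0 : w = 0 := funext fun x => by
      rcases x with i | i
      · simpa [plusFrame, polar_qPlus, Pi.single_apply] using hf i
      · simpa [plusFrame, polar_qPlus, Pi.single_apply] using he i
    rw [h0]; exact QuadraticMap.map_zero _
  · refine le_trans (sylow_bound (qPlus_nondeg (m + 1)) (by simp; omega) p hF (N := (m + 1) * m)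
      (R := (Fintype.card F ^ (m + 1) - 1) * ∏ i ∈ range m, (Fintype.card F ^ (2 * (i + 1)) - 1))
      (by rw [card_OQ_qPlus hF]; ring)
      (Nat.Coprime.mul_right (coprime_pow_pm p hF (by omega)).1
        (Nat.Coprime.prod_right fun i _ => (coprime_pow_pm p hF (by omega)).1)) hk) (le_of_eq ?_)
    congr 1
    have h := exponent_sum (m + 1) 0
    simp only [Fintype.card_sum, Fintype.card_fin]
    rw [show m + 1 + (m + 1) = 2 * (m + 1) + 0 by ring, h]
    simp

theorem minus_large (p : ℕ) [Fact p.Prime] [CharP F p] (m : ℕ) (hm : 2 ≤ m) (a b : F)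
    (hab : ∀ z₁ z₂ : F, z₁ ^ 2 + a * z₁ * z₂ + b * z₂ ^ 2 = 0 → z₁ = 0 ∧ z₂ = 0) :
    HasSteinberg (Cfsg.POmega F (Cfsg.quadFormMinus m F a b)) p := by
  have hF : Fintype.card F = Fintype.card F := rfl
  rw [← coe_qMinus]
  refine exists_steinberg (qMinus_nondeg hab m) (by simp; omega) (minusFrame m F a b hab) (by omega)
    (Or.inl ?_) p hF fun k hk => ?_
  · obtain ⟨z, hz⟩ := exists_qBin_value hab (-1)
    refine ⟨Sum.elim 0 z, fun i => ?_, fun i => ?_, ?_⟩
    · simp [minusFrame, polar_qMinus, polar_qPlus, polar_qBin, Pi.single_apply]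
    · simp [minusFrame, polar_qMinus, polar_qPlus, polar_qBin, Pi.single_apply]
    · rw [coe_qMinus, Cfsg.quadFormMinus, ← hz, qBin_apply]
      simp
  · refine le_trans (sylow_bound (qMinus_nondeg hab m) (by simp; omega) p hF (N := (m + 1) * m)
      (R := (Fintype.card F ^ (m + 1) + 1) * ∏ i ∈ range m, (Fintype.card F ^ (2 * (i + 1)) - 1))
      (by rw [card_OQ_qMinus hF m hab]; ring)
      (Nat.Coprime.mul_right (coprime_pow_pm p hF (by omega)).2
        (Nat.Coprime.prod_right fun i _ => (coprime_pow_pm p hF (by omega)).1)) hk) (le_of_eq ?_)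
    congr 1
    have h := exponent_sum m 2
    simp only [Fintype.card_sum, Fintype.card_fin]
    rw [show m + m + 2 = 2 * m + 2 by ring, h]
    rcases m with _ | m
    · simp
    · simp only [Nat.add_sub_cancel]; ring

/-- In dimension two `Ω` has order prime to the characteristic. -/
theorem two_dim {ι : Type} [Fintype ι] [DecidableEq ι] {Q : QuadraticForm F (ι → F)}
    (hQ : (polarBilin Q).Nondegenerate) (hn : Fintype.card ι = 2) (p : ℕ) [Fact p.Prime] [CharP F p] {R : ℕ}
    (hO : Nat.card (OQ Q) = 2 * R) (hR : Nat.Coprime p R) : HasSteinberg (Cfsg.POmega F (⇑Q)) p := by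
  refine HasSteinberg.of_not_dvd p fun hd => (Fact.out : p.Prime).one_lt.ne' ?_
  have hd' : p ∣ Nat.card (Cfsg.Omega F (⇑Q)) := hd.trans (Subgroup.card_quotient_dvd_card _)
  have hidx := index_Omega hQ (Or.inr (by omega : Fintype.card ι ≠ 4)) (by omega)
  have hmul := (Cfsg.Omega F (⇑Q)).card_mul_index
  rw [hidx, card_isometryGroup_eq Q rfl, hO, mul_left_comm] at hmul
  exact Nat.eq_one_of_dvd_coprimes hR dvd_rfl (hd'.trans ⟨Nat.card (SqClass F), by omega⟩)

theorem plus_one (p : ℕ) [Fact p.Prime] [CharP F p] : HasSteinberg (Cfsg.POmega F (Cfsg.quadFormPlus 1 F)) p := by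
  rw [← coe_qPlus]
  refine two_dim (qPlus_nondeg 1) (by simp) p (R := Fintype.card F ^ 1 - 1) ?_ (coprime_pow_pm p rfl le_rfl).1
  rw [card_OQ_qPlus rfl 0]; simp

theorem minus_zero (p : ℕ) [Fact p.Prime] [CharP F p] (a b : F)
    (hab : ∀ z₁ z₂ : F, z₁ ^ 2 + a * z₁ * z₂ + b * z₂ ^ 2 = 0 → z₁ = 0 ∧ z₂ = 0) :
    HasSteinberg (Cfsg.POmega F (Cfsg.quadFormMinus 0 F a b)) p := by
  rw [← coe_qMinus]
  refine two_dim (qMinus_nondeg hab 0) (by simp) p (R := Fintype.card F ^ 1 + 1) ?_ (coprime_pow_pm p rfl le_rfl).2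
  rw [card_OQ_qMinus rfl 0 hab]; simp

theorem minus_one (p : ℕ) [Fact p.Prime] [CharP F p] (a b : F)
    (hab : ∀ z₁ z₂ : F, z₁ ^ 2 + a * z₁ * z₂ + b * z₂ ^ 2 = 0 → z₁ = 0 ∧ z₂ = 0) :
    HasSteinberg (Cfsg.POmega F (Cfsg.quadFormMinus 1 F a b)) p := by
  obtain ⟨e, he, hq⟩ := CfsgLib.Classical.exists_card_eq_prime_pow (F := F) p
  let K := GaloisField p (2 * e)
  haveI : Fintype K := Fintype.ofFinite K
  have hK : Fintype.card K = Fintype.card F ^ 2 := by
    rw [← Nat.card_eq_fintype_card, GaloisField.card p (2 * e) (by omega), hq, ← pow_mul, mul_comm]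
  obtain ⟨f⟩ := CfsgLib.Classical.SmallOrtho.nonempty_pomega_four_minus (K := K) (rfl : Fintype.card F = _) hK hab
  exact HasSteinberg.of_equiv p f (CfsgLib.PSLSteinberg.exists_steinberg p)

theorem plus_two (p : ℕ) [Fact p.Prime] [CharP F p] (h3 : 3 ≤ Fintype.card F) :
    HasSteinberg (Cfsg.POmega F (Cfsg.quadFormPlus 2 F)) p := by
  obtain ⟨f⟩ := CfsgLib.Classical.SmallOrtho.nonempty_pomega_four_plus h3
  exact HasSteinberg.of_equiv p f
    (HasSteinberg.prod p (CfsgLib.PSLSteinberg.exists_steinberg p) (CfsgLib.PSLSteinberg.exists_steinberg p))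

end CfsgLib.OrthFlags
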