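import Cfsg.Agent.Lib.Char.Exceptional.Orth.Frame

/-!
# Order and exponent of the unipotent group of a frame
-/

set_option autoImplicit false

namespace CfsgLib.OrthFlags

open QuadraticMap (polar polarBilin)
open CfsgLib.Classical.Quad Finset

variable {F : Type*} [Field F] {V : Type*} [AddCommGroup V] [Module F V] [FiniteDimensional F V]
  {Q : QuadraticForm F V} {m : ℕ} (P : Frame Q m) (hQ : (polarBilin Q).Nondegenerate)

namespace Frame

theorem IsUnip.step_O {g : OQ Q} (hg : P.IsUnip g) {j : ℕ} (hj : j < m) {z : V} (hz : z ∈ P.O j) :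
    (g : V ≃ₗ[F] V) z - z ∈ P.O (j + 1) := by
  intro l hl
  rw [QuadraticMap.polar_sub_left, hg.polar_e P (i := l), sub_self]
  intro l' hl'
  exact hz l' (by rw [Fin.lt_def] at hl'; omega)

theorem IsUnip.step_S {g : OQ Q} (hg : P.IsUnip g) {k : ℕ} {z : V} (hz : z ∈ P.S (k + 1)) :
    (g : V ≃ₗ[F] V) z - z ∈ P.S k := by
  induction hz using Submodule.span_induction with
  | mem x hx =>
    obtain ⟨i, hi, rfl⟩ := hx
    exact P.S_mono (Nat.lt_succ_iff.1 hi) (hg.1 i)
  | zero => simp
  | add x y _ _ hx hy => rw [map_add, add_sub_add_comm]; exact add_mem hx hy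
  | smul c x _ hx => rw [map_smul, ← smul_sub]; exact (P.S k).smul_mem c hx

theorem IsUnip.nilpotent {g : OQ Q} (hg : P.IsUnip g) :
    (((g : V ≃ₗ[F] V) : Module.End F V) - 1) ^ (2 * m + 1) = 0 := by
  set N : Module.End F V := ((g : V ≃ₗ[F] V) : Module.End F V) - 1
  have hN : ∀ z, N z = (g : V ≃ₗ[F] V) z - z := fun z => rfl
  have h1 : ∀ j, j ≤ m → ∀ z, (N ^ j) z ∈ P.O j := by
    intro j
    induction j with
    | zero => intro _ z; rw [P.O_zero]; trivial
    | succ j ih =>
      intro hj z
      rw [pow_succ', Module.End.mul_apply, hN]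
      exact hg.step_O P (by omega) (ih (by omega) z)
  have h2 : ∀ i, i ≤ m → ∀ z, (N ^ (m + 1 + i)) z ∈ P.S (m - i) := by
    intro i
    induction i with
    | zero =>
      intro _ z
      rw [Nat.add_zero, pow_succ', Module.End.mul_apply, hN, Nat.sub_zero]
      exact hg.2 _ (h1 m le_rfl z)
    | succ i ih =>
      intro hi z
      rw [show m + 1 + (i + 1) = (m + 1 + i) + 1 from rfl, pow_succ', Module.End.mul_apply, hN]
      refine hg.step_S P ?_
      rw [show m - (i + 1) + 1 = m - i by omega]
      exact ih (by omega) z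
  refine LinearMap.ext fun z => ?_
  have h := h2 m le_rfl z
  rw [Nat.sub_self, P.S_zero, Submodule.mem_bot, show m + 1 + m = 2 * m + 1 by omega] at h
  exact h

theorem isPGroup_U [Nontrivial V] (p : ℕ) [Fact p.Prime] [CharP F p] : IsPGroup p (P.U hQ) := by
  rintro ⟨g, hg⟩
  refine ⟨2 * m + 1, Subtype.ext (Subtype.ext (LinearEquiv.toLinearMap_injective ?_))⟩
  haveI : CharP (Module.End F V) p :=
    charP_of_injective_algebraMap (algebraMap F (Module.End F V)).injective p
  have h := (P.isUnip_of_mem hQ hg).nilpotent P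
  have hle : 2 * m + 1 ≤ p ^ (2 * m + 1) := ((Fact.out : p.Prime).one_lt).le |> fun _ =>
    (Nat.lt_pow_self (Fact.out : p.Prime).one_lt).le
  have h' := pow_eq_zero_of_le hle h
  rw [sub_pow_char_pow_of_commute _ _ (Commute.one_right _), one_pow, sub_eq_zero] at h'
  show (((g ^ p ^ (2 * m + 1) : OQ Q) : V ≃ₗ[F] V) : Module.End F V) = _
  rw [SubmonoidClass.coe_pow]
  exact (map_pow (LinearEquiv.automorphismGroup.toLinearMapMonoidHom) _ _).trans h'

theorem finrank_A (k : Fin m) : Module.finrank F (P.A k) + 2 * (k.val + 1) = Module.finrank F V := by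
  let T : V →ₗ[F] ({l : Fin m // l ≤ k} → F × F) :=
    LinearMap.pi fun l => ((polarBilin Q) (P.e l.1)).prod ((polarBilin Q) (P.f l.1))
  have hker : LinearMap.ker T = P.A k := by
    ext a
    rw [LinearMap.mem_ker, funext_iff]
    exact ⟨fun h l hl => Prod.mk_eq_zero.1 (h ⟨l, hl⟩), fun h l => Prod.mk_eq_zero.2 (h l.1 l.2)⟩
  have hsurj : Function.Surjective T := by
    intro c
    let d : Fin m → F × F := fun i => if h : i ≤ k then c ⟨i, h⟩ else 0
    refine ⟨∑ i, (d i).2 • P.e i + ∑ i, (d i).1 • P.f i, funext fun l => ?_⟩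
    show ((polarBilin Q) (P.e l.1) _, (polarBilin Q) (P.f l.1) _) = c l
    have hd : d l.1 = c l := by simp only [d]; rw [dif_pos l.2]
    rw [← hd]
    simp only [QuadraticMap.polarBilin_apply_apply, QuadraticMap.polar_comm (⇑Q) (P.e l.1),
      QuadraticMap.polar_comm (⇑Q) (P.f l.1), polar_add_left', polar_sum_left]
    simp [P.ee, P.ef, P.fe, P.ff]
  have h := T.finrank_range_add_finrank_ker
  rw [hker, LinearMap.range_eq_top.2 hsurj, finrank_top, Module.finrank_pi_fintype,
    sum_congr rfl (fun _ _ => Module.finrank_prod.trans (by rw [Module.finrank_self])), sum_const, card_univ,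
    show Fintype.card {l : Fin m // l ≤ k} = k.val + 1 by
      rw [Fintype.card_subtype]; convert Fin.card_Iic k using 2; ext; simp] at h
  rw [smul_eq_mul] at h
  omega

theorem gen_injective (k : Fin m) {a b : P.A k}
    (h : (P.gen hQ k a : V ≃ₗ[F] V) (P.f k) = (P.gen hQ k b : V ≃ₗ[F] V) (P.f k)) : a = b := by
  rw [P.gen_f_self, P.gen_f_self] at h
  have h1 := congrArg (fun v => polar Q v (P.f k)) h
  have hA : ∀ x : P.A k, polar Q (x : V) (P.f k) = 0 := fun x =>
    (QuadraticMap.polar_comm (⇑Q) _ _).trans (x.2 k le_rfl).2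
  simp only [polar_add_left', polar_smul_left', P.ff, P.ef, hA, if_pos] at h1
  have hq : Q (a : V) = Q (b : V) := by linear_combination -h1
  rw [hq, add_right_inj, neg_one_smul, neg_one_smul, neg_inj] at h
  exact Subtype.ext h

theorem le_card_U [Fintype F] {q : ℕ} (hq : Fintype.card F = q) :
    q ^ (∑ k : Fin m, (Module.finrank F V - 2 * (k.val + 1))) ≤ Nat.card (P.U hQ) := by
  classical
  haveI : Finite V := Module.finite_of_finite F
  haveI : Finite (V ≃ₗ[F] V) := Finite.of_injective (fun g => (⇑g : V → V)) DFunLike.coe_injective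
  let St : ℕ → Set (P.U hQ) := fun k => {g | ∀ l : Fin m, l.val < k → ((g : OQ Q) : V ≃ₗ[F] V) (P.f l) = P.f l}
  have key : ∀ j, j ≤ m → q ^ (∑ k ∈ univ.filter (fun k : Fin m => m - j ≤ k.val), (Module.finrank F V - 2 * (k.val + 1)))
      ≤ Nat.card (St (m - j)) := by
    intro j
    induction j with
    | zero =>
      intro _
      rw [filter_false_of_mem (fun k _ => by have := k.isLt; omega), sum_empty, pow_zero]
      haveI : Nonempty (St (m - 0)) := ⟨⟨1, fun l _ => rfl⟩⟩
      exact Nat.card_pos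
    | succ j ih =>
      intro hj
      let k : Fin m := ⟨m - (j + 1), by omega⟩
      have hk : m - j = k.val + 1 := by show m - j = m - (j + 1) + 1; omega
      rw [show univ.filter (fun i : Fin m => m - (j + 1) ≤ i.val) =
        insert k (univ.filter fun i : Fin m => m - j ≤ i.val) by
          ext i; simp only [mem_insert, mem_filter, mem_univ, true_and, Fin.ext_iff]; omega,
        sum_insert (by simp only [mem_filter, mem_univ, true_and]; omega), pow_add]
      have hA : Nat.card (P.A k) = q ^ (Module.finrank F V - 2 * (k.val + 1)) := by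
        rw [Module.natCard_eq_pow_finrank (K := F), Nat.card_eq_fintype_card, hq]
        congr 1
        have := P.finrank_A k
        omega
      rw [← hA]
      refine (Nat.mul_le_mul_left _ (ih (by omega))).trans ?_
      rw [← Nat.card_prod]
      refine Nat.card_le_card_of_injective (fun au => ⟨⟨P.gen hQ k au.1, P.gen_mem_U hQ k au.1⟩ * au.2.1, ?_⟩) ?_
      · intro l hl
        show (P.gen hQ k au.1 : V ≃ₗ[F] V) (((au.2.1 : OQ Q) : V ≃ₗ[F] V) (P.f l)) = P.f l
        rw [au.2.2 l (by omega), P.gen_f_lt hQ au.1 (Fin.lt_def.2 hl)]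
      · rintro ⟨a, u⟩ ⟨b, w⟩ e
        have e' : (⟨P.gen hQ k a, P.gen_mem_U hQ k a⟩ : P.U hQ) * u.1 = ⟨P.gen hQ k b, P.gen_mem_U hQ k b⟩ * w.1 :=
          congrArg Subtype.val e
        have e1 := congrArg (fun g : P.U hQ => ((g : OQ Q) : V ≃ₗ[F] V) (P.f k)) e'
        simp only [Subgroup.coe_mul, LinearEquiv.mul_apply] at e1
        rw [u.2 k (by show k.val < m - j; omega), w.2 k (by show k.val < m - j; omega)] at e1
        obtain rfl := P.gen_injective hQ k e1
        rw [mul_right_inj] at e'
        rw [Subtype.ext e']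
  refine le_trans ?_ ((key m le_rfl).trans (Finite.card_subtype_le _))
  rw [Nat.sub_self, filter_true_of_mem fun _ _ => Nat.zero_le _]

end Frame

end CfsgLib.OrthFlags
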